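import Groth.Agent.Models.K379.Affine

/-!
# Affine configurations: paths, cycles, chains

Paths of indices in a numerical type all of whose indices satisfy `a i i = - 2 w i`, and the affine
configurations supported on cycles and chains.
-/

set_option autoImplicit false

open Finset

namespace K379.Affine

open Groth.Agent.Models.NumBasic

variable {n : ℕ} (T : _root_.Models.NumericalType n)

/-- A path `u 0, …, u k` of distinct indices, consecutive ones adjacent. -/
structure IsPath (u : ℕ → Fin n) (k : ℕ) : Prop where
  inj : ∀ i ≤ k, ∀ j ≤ k, u i = u j → i = j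
  adj : ∀ i < k, Adj T (u i) (u (i + 1))

variable {T}

namespace IsPath

variable {u : ℕ → Fin n} {k : ℕ}

theorem adj' (hp : IsPath T u k) {i j : ℕ} (hij : j = i + 1) (hj : j ≤ k) : Adj T (u i) (u j) := by
  subst hij
  exact hp.adj i (by omega)

theorem one_le (hp : IsPath T u k) {i j : ℕ} (hij : j = i + 1) (hj : j ≤ k) :
    1 ≤ N T (u i) (u j) := (hp.adj' hij hj).one_le

theorem one_le' (hp : IsPath T u k) {i j : ℕ} (hij : j = i + 1) (hj : j ≤ k) :
    1 ≤ N T (u j) (u i) := (hp.adj' hij hj).symm.one_le

theorem ne (hp : IsPath T u k) {i j : ℕ} (hi : i ≤ k) (hj : j ≤ k) (hij : i ≠ j) : u i ≠ u j :=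
  fun h => hij (hp.inj i hi j hj h)

theorem reverse (hp : IsPath T u k) : IsPath T (fun i => u (k - i)) k where
  inj i hi j hj h := by
    have := hp.inj (k - i) (by omega) (k - j) (by omega) h
    omega
  adj i hi := by
    have h1 := (hp.adj' (i := k - (i + 1)) (j := k - i) (by omega) (by omega)).symm
    exact h1

theorem sub (hp : IsPath T u k) (a l : ℕ) (h : a + l ≤ k) : IsPath T (fun i => u (a + i)) l where
  inj i hi j hj h := by
    have := hp.inj (a + i) (by omega) (a + j) (by omega) h
    omega
  adj i hi := hp.adj' (by omega) (by omega)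

theorem snoc (hp : IsPath T u k) {x : Fin n} (hx : ∀ i ≤ k, u i ≠ x) (h : Adj T (u k) x) :
    IsPath T (fun i => if i ≤ k then u i else x) (k + 1) where
  inj i hi j hj h := by
    by_cases h1 : i ≤ k <;> by_cases h2 : j ≤ k
    · simp only [h1, h2, if_true] at h
      exact hp.inj i h1 j h2 h
    · simp only [h1, h2, if_true, if_false] at h
      exact absurd h (hx i h1)
    · simp only [h1, h2, if_true, if_false] at h
      exact absurd h.symm (hx j h2)
    · omega
  adj i hi := by
    by_cases h1 : i < k
    · have h2 : i ≤ k := by omega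
      have h3 : i + 1 ≤ k := by omega
      simp only [h2, h3, if_true]
      exact hp.adj i h1
    · have h2 : i = k := by omega
      subst h2
      simp only [le_refl, if_true]
      have h3 : ¬ i + 1 ≤ i := by omega
      simp only [h3, if_false]
      exact h

end IsPath

/-- The key lemma for chains. -/
theorem chain_key {u : ℕ → Fin n} {k : ℕ} (h2 : ∀ i ≤ k, T.a (u i) (u i) = -2 * T.w (u i))
    (hp : IsPath T u k)
    (hk : 1 ≤ k) (y : ℕ → ℤ) (hy : ∀ i ≤ k, 0 < y i)
    (h0 : 2 * y 0 ≤ N T (u 0) (u 1) * y 1)
    (he : 2 * y k ≤ N T (u k) (u (k - 1)) * y (k - 1))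
    (hm : ∀ i, 0 < i → i < k →
      2 * y i ≤ N T (u i) (u (i - 1)) * y (i - 1) + N T (u i) (u (i + 1)) * y (i + 1)) :
    k + 1 = n ∧ N T (u 0) (u 1) * y 1 = 2 * y 0 ∧ N T (u k) (u (k - 1)) * y (k - 1) = 2 * y k ∧
    (∀ i, 0 < i → i < k →
      N T (u i) (u (i - 1)) * y (i - 1) + N T (u i) (u (i + 1)) * y (i + 1) = 2 * y i) ∧
    (∀ i j, i + 1 < j → j ≤ k → N T (u i) (u j) = 0) ∧
    (∀ i ≤ k, ∀ j ≤ k, T.m (u i) * y j = T.m (u j) * y i) := by
  obtain ⟨e1, -, e3, e4, e5⟩ := key u (k + 1) (fun i hi => h2 i (by omega)) (by omega)
    (fun i hi j hj h => hp.inj i (by omega) j (by omega) h) y (fun i hi => hy i (by omega))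
    (fun i => if i = 0 then {1} else if i = k then {k - 1} else {i - 1, i + 1})
    (fun i hi j hj => by
      beta_reduce at hj
      split_ifs at hj with h h'
      · rw [Finset.mem_singleton] at hj; omega
      · rw [Finset.mem_singleton] at hj; omega
      · rw [Finset.mem_insert, Finset.mem_singleton] at hj; omega)
    (fun i hi => by
      beta_reduce
      split_ifs with h h'
      · subst h; rw [Finset.sum_singleton]; exact h0
      · subst h'; rw [Finset.sum_singleton]; exact he
      · rw [Finset.sum_pair (by omega)]; exact hm i (by omega) (by omega))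
  refine ⟨e1, ?_, ?_, ?_, ?_, fun i hi j hj => e5 i (by omega) j (by omega)⟩
  · have := e3 0 (by omega)
    simpa using this
  · have := e3 k (by omega)
    have hk0 : k ≠ 0 := by omega
    simpa [hk0] using this
  · intro i hi hik
    have := e3 i (by omega)
    have hi0 : i ≠ 0 := by omega
    have hik' : i ≠ k := by omega
    simp only [hi0, hik', if_false] at this
    rwa [Finset.sum_pair (by omega)] at this
  · intro i j hij hj
    refine e4 i (by omega) j (by omega) (by omega) ?_
    beta_reduce
    split_ifs with h h'
    · rw [Finset.mem_singleton]; omega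
    · rw [Finset.mem_singleton]; omega
    · rw [Finset.mem_insert, Finset.mem_singleton]; omega

variable (T)

/-- The data of a numerical type in the ordering `u`. -/
structure Data (u : ℕ → Fin n) (M W : ℕ → ℤ) (A : ℕ → ℕ → ℤ) : Prop where
  inj : ∀ i < n, ∀ j < n, u i = u j → i = j
  hm : ∀ i < n, T.m (u i) = M i
  hw : ∀ i < n, T.w (u i) = W i
  ha : ∀ i j, i < j → j < n → T.a (u i) (u j) = A i j

/-- The cycle. -/
def DCyc (u : ℕ → Fin n) (m w : ℤ) : Prop :=
  Data T u (fun _ => m) (fun _ => w) (fun i j => if j = i + 1 ∨ (i = 0 ∧ j + 1 = n) then w else 0)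

/-- The chain with multiplicities `2m, …, 2m, m`. -/
def DC1 (u : ℕ → Fin n) (m w : ℤ) : Prop :=
  Data T u (fun i => if i + 1 < n then 2 * m else m)
    (fun i => if i = 0 then w else if i + 1 < n then 2 * w else 4 * w)
    (fun i j => if j = i + 1 then (if j + 1 < n then 2 * w else 4 * w) else 0)

/-- The chain with multiplicities `m, …, m`. -/
def DC2 (u : ℕ → Fin n) (m w : ℤ) : Prop :=
  Data T u (fun _ => m)
    (fun i => if i = 0 ∨ i + 1 = n then w else 2 * w)
    (fun i j => if j = i + 1 then 2 * w else 0)

/-- The chain with multiplicities `m, 2m, …, 2m, m`. -/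
def DC3 (u : ℕ → Fin n) (m w : ℤ) : Prop :=
  Data T u (fun i => if i = 0 ∨ i + 1 = n then m else 2 * m)
    (fun i => if i = 0 ∨ i + 1 = n then 2 * w else w)
    (fun i j => if j = i + 1 then (if i = 0 ∨ j + 1 = n then 2 * w else w) else 0)

/-- The first D-type graph. -/
def DB1 (u : ℕ → Fin n) (m w : ℤ) : Prop :=
  Data T u (fun i => if i = 0 ∨ n ≤ i + 2 then m else 2 * m)
    (fun i => if i = 0 then 2 * w else w)
    (fun i j => if i = 0 ∧ j = 1 then 2 * w else
      if (j = i + 1 ∧ j + 2 ≤ n) ∨ (i + 3 = n ∧ j + 1 = n) then w else 0)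

/-- The second D-type graph. -/
def DB2 (u : ℕ → Fin n) (m w : ℤ) : Prop :=
  Data T u (fun i => if n ≤ i + 2 then m else 2 * m)
    (fun i => if i = 0 then w else 2 * w)
    (fun i j => if (j = i + 1 ∧ j + 2 ≤ n) ∨ (i + 3 = n ∧ j + 1 = n) then 2 * w else 0)

/-- The double fork. -/
def DDD (u : ℕ → Fin n) (m w : ℤ) : Prop :=
  Data T u (fun i => if i ≤ 1 ∨ n ≤ i + 2 then m else 2 * m) (fun _ => w)
    (fun i j => if (i = 0 ∧ j = 2) ∨ (i = 1 ∧ j = 2) ∨ (j = i + 1 ∧ 2 ≤ i ∧ j + 2 ≤ n) ∨
      (i + 3 = n ∧ j + 1 = n) then w else 0)

variable {T}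

theorem w_eq_of_N {i j : Fin n} {c d : ℤ} (h1 : N T i j = c) (h2 : N T j i = d) :
    c * T.w i = d * T.w j := by
  have := w_mul_N T i j
  rw [h1, h2] at this
  linarith

theorem w_eq_of_N_one {i j : Fin n} (h1 : N T i j = 1) (h2 : N T j i = 1) :
    T.w i = T.w j := by
  have := w_eq_of_N h1 h2
  linarith

theorem cyc {u : ℕ → Fin n} {k : ℕ} (h2 : ∀ i ≤ k, T.a (u i) (u i) = -2 * T.w (u i))
    (hp : IsPath T u k)
    (hk : 2 ≤ k) (hc : Adj T (u k) (u 0)) :
    k + 1 = n ∧ DCyc T u (T.m (u 0)) (T.w (u 0)) := by
  obtain ⟨e1, -, e3, e4, e5⟩ := key u (k + 1) (fun i hi => h2 i (by omega)) (by omega)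
    (fun i hi j hj h => hp.inj i (by omega) j (by omega) h) (fun _ => 1) (fun i hi => one_pos)
    (fun i => if i = 0 then {1, k} else if i = k then {k - 1, 0} else {i - 1, i + 1})
    (fun i hi j hj => by
      beta_reduce at hj
      split_ifs at hj with h h'
      · rw [Finset.mem_insert, Finset.mem_singleton] at hj; omega
      · rw [Finset.mem_insert, Finset.mem_singleton] at hj; omega
      · rw [Finset.mem_insert, Finset.mem_singleton] at hj; omega)
    (fun i hi => by
      beta_reduce
      split_ifs with h h'
      · subst h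
        rw [Finset.sum_pair (by omega)]
        have a1 := hp.one_le (i := 0) (j := 1) rfl (by omega)
        have a2 := hc.symm.one_le
        linarith
      · subst h'
        rw [Finset.sum_pair (by omega)]
        have a1 := hp.one_le' (i := i - 1) (j := i) (by omega) (by omega)
        have a2 := hc.one_le
        linarith
      · rw [Finset.sum_pair (by omega)]
        have a1 := hp.one_le' (i := i - 1) (j := i) (by omega) (by omega)
        have a2 := hp.one_le (i := i) (j := i + 1) (by omega) (by omega)
        linarith)
  have hN : ∀ i j, j = i + 1 → j ≤ k → N T (u i) (u j) = 1 ∧ N T (u j) (u i) = 1 := by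
    intro i j hij hj
    have a1 := hp.one_le hij hj
    have a2 := hp.one_le' hij hj
    constructor
    · have := e3 i (by omega)
      rcases Nat.eq_zero_or_pos i with h0 | h0
      · subst h0
        simp only [if_true] at this
        rw [Finset.sum_pair (by omega)] at this
        have a3 := hc.symm.one_le
        have : j = 1 := by omega
        subst this
        linarith
      · have hi0 : i ≠ 0 := by omega
        have hik : i ≠ k := by omega
        simp only [hi0, hik, if_false] at this
        rw [Finset.sum_pair (by omega)] at this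
        have a3 := hp.one_le' (i := i - 1) (j := i) (by omega) (by omega)
        subst hij
        linarith
    · have := e3 j (by omega)
      have hj0 : j ≠ 0 := by omega
      by_cases hjk : j = k
      · subst hjk
        simp only [hj0, if_true, if_false] at this
        rw [Finset.sum_pair (by omega)] at this
        have a3 := hc.one_le
        have h9 : j - 1 = i := by omega
        rw [h9] at this
        linarith
      · simp only [hj0, hjk, if_false] at this
        rw [Finset.sum_pair (by omega)] at this
        have a3 := hp.one_le (i := j) (j := j + 1) (by omega) (by omega)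
        have h9 : j - 1 = i := by omega
        rw [h9] at this
        linarith
  have hw : ∀ i, i ≤ k → T.w (u i) = T.w (u 0) := by
    intro i
    induction i with
    | zero => intro _; rfl
    | succ i ih =>
      intro hi
      rw [← ih (by omega)]
      obtain ⟨b1, b2⟩ := hN i (i + 1) rfl hi
      exact w_eq_of_N_one b2 b1
  refine ⟨e1, ⟨fun i hi j hj h => hp.inj i (by omega) j (by omega) h, ?_, ?_, ?_⟩⟩
  · intro i hi
    have := e5 i (by omega) 0 (by omega)
    simpa using this
  · intro i hi
    exact hw i (by omega)
  · intro i j hij hj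
    rw [a_eq, hw i (by omega)]
    by_cases h1 : j = i + 1
    · simp only [h1, true_or, if_true]
      rw [(hN i (i + 1) rfl (by omega)).1, mul_one]
    · by_cases h3 : i = 0 ∧ j + 1 = n
      · obtain ⟨h3, h4⟩ := h3
        have hjk : j = k := by omega
        subst h3
        subst hjk
        have := e3 0 (by omega)
        simp only [if_true] at this
        rw [Finset.sum_pair (by omega)] at this
        have a1 := (hN 0 1 rfl (by omega)).1
        have a3 := hc.symm.one_le
        have : N T (u 0) (u j) = 1 := by linarith
        rw [this, mul_one]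
        simp [h4]
      · rw [if_neg (by omega), e4 i (by omega) j (by omega) (by omega), mul_zero]
        beta_reduce
        split_ifs with h h'
        · rw [Finset.mem_insert, Finset.mem_singleton]; omega
        · rw [Finset.mem_insert, Finset.mem_singleton]; omega
        · rw [Finset.mem_insert, Finset.mem_singleton]; omega

/-- Weights are constant along a stretch of simple edges. -/
theorem w_const {u : ℕ → Fin n} {a b : ℕ}
    (h : ∀ i, a ≤ i → i < b → N T (u i) (u (i + 1)) = 1 ∧ N T (u (i + 1)) (u i) = 1) :
    ∀ i, a ≤ i → i ≤ b → T.w (u i) = T.w (u a) := by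
  intro i hi
  induction i, hi using Nat.le_induction with
  | base => intro _; rfl
  | succ i hi ih =>
    intro hib
    rw [← ih (by omega)]
    obtain ⟨b1, b2⟩ := h i hi (by omega)
    exact w_eq_of_N_one b2 b1

theorem c1 {u : ℕ → Fin n} {k : ℕ} (h2 : ∀ i ≤ k, T.a (u i) (u i) = -2 * T.w (u i))
    (hp : IsPath T u k)
    (hk : 2 ≤ k) (ha : 2 ≤ N T (u 0) (u 1)) (hb : 2 ≤ N T (u (k - 1)) (u k)) :
    k + 1 = n ∧ DC1 T u (T.m (u k)) (T.w (u 0)) := by
  obtain ⟨e1, e2, e3, e4, e5, e6⟩ := chain_key h2 hp (by omega) (fun i => if i < k then 2 else 1)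
    (fun i hi => by beta_reduce; split_ifs <;> norm_num)
    (by
      beta_reduce
      rw [if_pos (by omega), if_pos (by omega)]
      linarith)
    (by
      beta_reduce
      rw [if_neg (by omega), if_pos (by omega)]
      have a1 := hp.one_le' (i := k - 1) (j := k) (by omega) (by omega)
      linarith)
    (fun i hi hik => by
      beta_reduce
      rw [if_pos (by omega), if_pos (by omega)]
      have a1 := hp.one_le' (i := i - 1) (j := i) (by omega) (by omega)
      have a2 := hp.one_le (i := i) (j := i + 1) (by omega) (by omega)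
      split_ifs with h
      · linarith
      · have : i = k - 1 := by omega
        have h3 : i + 1 = k := by omega
        rw [h3]
        rw [← this] at hb
        linarith)
  beta_reduce at e2 e3 e4 e6
  rw [if_pos (show 1 < k by omega), if_pos (show 0 < k by omega)] at e2
  rw [if_neg (show ¬ k < k by omega), if_pos (show k - 1 < k by omega)] at e3
  have hN01 : N T (u 0) (u 1) = 2 := by linarith
  have hNk : N T (u k) (u (k - 1)) = 1 := by linarith
  -- interior equations
  have hint : ∀ i, 0 < i → i < k - 1 → N T (u i) (u (i - 1)) = 1 ∧ N T (u i) (u (i + 1)) = 1 := by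
    intro i hi hik
    have := e4 i hi (by omega)
    rw [if_pos (by omega), if_pos (by omega), if_pos (by omega)] at this
    have a1 := hp.one_le' (i := i - 1) (j := i) (by omega) (by omega)
    have a2 := hp.one_le (i := i) (j := i + 1) (by omega) (by omega)
    constructor <;> linarith
  have hlast : N T (u (k - 1)) (u (k - 1 - 1)) = 1 ∧ N T (u (k - 1)) (u k) = 2 := by
    have := e4 (k - 1) (by omega) (by omega)
    have h3 : k - 1 + 1 = k := by omega
    rw [h3, if_pos (by omega), if_neg (by omega), if_pos (by omega)] at this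
    have a1 := hp.one_le' (i := k - 1 - 1) (j := k - 1) (by omega) (by omega)
    constructor <;> linarith
  have hN10 : N T (u 1) (u 0) = 1 := by
    by_cases h3 : 1 < k - 1
    · exact (hint 1 (by omega) h3).1
    · have h4 : k - 1 = 1 := by omega
      have := hlast.1
      rw [h4] at this
      exact this
  have hwmid := w_const (T := T) (u := u) (a := 1) (b := k - 1) (fun i hi hik => by
    refine ⟨(hint i (by omega) hik).2, ?_⟩
    by_cases h3 : i + 1 < k - 1
    · have := (hint (i + 1) (by omega) h3).1
      simpa using this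
    · have h4 : k - 1 = i + 1 := by omega
      have := hlast.1
      rw [h4] at this
      simpa using this)
  have hw1 : T.w (u 1) = 2 * T.w (u 0) := by
    have := w_eq_of_N hN01 hN10
    linarith
  have hwk : T.w (u k) = 4 * T.w (u 0) := by
    have h3 := w_eq_of_N hNk hlast.2
    have h4 := hwmid (k - 1) (by omega) (by omega)
    linarith
  refine ⟨e1, ⟨fun i hi j hj h => hp.inj i (by omega) j (by omega) h, ?_, ?_, ?_⟩⟩
  · intro i hi
    have := e6 i (by omega) k (by omega)
    simp only [lt_self_iff_false, if_false, mul_one] at this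
    by_cases h3 : i < k
    · rw [if_pos h3] at this
      beta_reduce
      rw [if_pos (by omega)]
      linarith
    · rw [if_neg h3] at this
      beta_reduce
      rw [if_neg (by omega)]
      linarith
  · intro i hi
    beta_reduce
    split_ifs with h3 h4
    · rw [h3]
    · rw [hwmid i (by omega) (by omega), hw1]
    · have : i = k := by omega
      rw [this, hwk]
  · intro i j hij hj
    beta_reduce
    rw [a_eq]
    by_cases h3 : j = i + 1
    · rw [if_pos h3]
      subst h3
      by_cases h0 : i = 0
      · subst h0
        rw [if_pos (by omega)]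
        simp only [zero_add]
        rw [hN01]
        ring
      · rw [hwmid i (by omega) (by omega), hw1]
        by_cases h4 : i = k - 1
        · rw [if_neg (by omega)]
          have h5 : i + 1 = k := by omega
          rw [h5, h4, hlast.2]
          ring
        · rw [if_pos (by omega), (hint i (by omega) (by omega)).2]
          ring
    · rw [if_neg h3, e5 i j (by omega) (by omega), mul_zero]

theorem c2 {u : ℕ → Fin n} {k : ℕ} (h2 : ∀ i ≤ k, T.a (u i) (u i) = -2 * T.w (u i))
    (hp : IsPath T u k)
    (hk : 2 ≤ k) (ha : 2 ≤ N T (u 0) (u 1)) (hb : 2 ≤ N T (u k) (u (k - 1))) :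
    k + 1 = n ∧ DC2 T u (T.m (u 0)) (T.w (u 0)) := by
  obtain ⟨e1, e2, e3, e4, e5, e6⟩ := chain_key h2 hp (by omega) (fun i => 1)
    (fun i hi => one_pos) (by linarith) (by linarith)
    (fun i hi hik => by
      have a1 := hp.one_le' (i := i - 1) (j := i) (by omega) (by omega)
      have a2 := hp.one_le (i := i) (j := i + 1) (by omega) (by omega)
      linarith)
  norm_num at e2 e3 e4 e6
  have hint : ∀ i, 0 < i → i < k → N T (u i) (u (i - 1)) = 1 ∧ N T (u i) (u (i + 1)) = 1 := by
    intro i hi hik
    have := e4 i hi (by omega)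
    have a1 := hp.one_le' (i := i - 1) (j := i) (by omega) (by omega)
    have a2 := hp.one_le (i := i) (j := i + 1) (by omega) (by omega)
    constructor <;> linarith
  have hwmid := w_const (T := T) (u := u) (a := 1) (b := k - 1) (fun i hi hik => by
    refine ⟨(hint i (by omega) (by omega)).2, ?_⟩
    have := (hint (i + 1) (by omega) (by omega)).1
    simpa using this)
  have hw1 : T.w (u 1) = 2 * T.w (u 0) := by
    have := w_eq_of_N e2 (hint 1 (by omega) (by omega)).1
    linarith
  have hwk : T.w (u k) = T.w (u 0) := by
    have h6 := (hint (k - 1) (by omega) (by omega)).2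
    have h7 : k - 1 + 1 = k := by omega
    rw [h7] at h6
    have h3 := w_eq_of_N e3 h6
    have h4 := hwmid (k - 1) (by omega) (by omega)
    linarith
  refine ⟨e1, ⟨fun i hi j hj h => hp.inj i (by omega) j (by omega) h, ?_, ?_, ?_⟩⟩
  · intro i hi
    exact e6 i (by omega) 0 (by omega)
  · intro i hi
    beta_reduce
    by_cases h0 : i = 0
    · rw [if_pos (by omega), h0]
    · by_cases h4 : i = k
      · rw [if_pos (by omega), h4, hwk]
      · rw [if_neg (by omega), hwmid i (by omega) (by omega), hw1]
  · intro i j hij hj
    beta_reduce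
    rw [a_eq]
    by_cases h3 : j = i + 1
    · rw [if_pos h3]
      subst h3
      by_cases h0 : i = 0
      · subst h0
        simp only [zero_add]
        rw [e2]
        ring
      · rw [hwmid i (by omega) (by omega), hw1, (hint i (by omega) (by omega)).2]
        ring
    · rw [if_neg h3, e5 i j (by omega) (by omega), mul_zero]

theorem c3 {u : ℕ → Fin n} {k : ℕ} (h2 : ∀ i ≤ k, T.a (u i) (u i) = -2 * T.w (u i))
    (hp : IsPath T u k)
    (hk : 2 ≤ k) (ha : 2 ≤ N T (u 1) (u 0)) (hb : 2 ≤ N T (u (k - 1)) (u k)) :
    k + 1 = n ∧ DC3 T u (T.m (u 0)) (T.w (u 1)) := by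
  obtain ⟨e1, e2, e3, e4, e5, e6⟩ := chain_key h2 hp (by omega)
    (fun i => if i = 0 ∨ i = k then 1 else 2)
    (fun i hi => by beta_reduce; split_ifs <;> norm_num)
    (by
      beta_reduce
      rw [if_pos (by omega), if_neg (by omega)]
      have a1 := hp.one_le (i := 0) (j := 1) (by omega) (by omega)
      linarith)
    (by
      beta_reduce
      rw [if_pos (by omega), if_neg (by omega)]
      have a1 := hp.one_le' (i := k - 1) (j := k) (by omega) (by omega)
      linarith)
    (fun i hi hik => by
      beta_reduce
      rw [if_neg (by omega)]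
      have a1 := hp.one_le' (i := i - 1) (j := i) (by omega) (by omega)
      have a2 := hp.one_le (i := i) (j := i + 1) (by omega) (by omega)
      have b1 : 2 ≤ N T (u i) (u (i - 1)) * (if i - 1 = 0 ∨ i - 1 = k then 1 else 2) := by
        split_ifs with h
        · have h3 : i = 1 := by omega
          subst h3
          simpa using ha
        · linarith
      have b2 : 2 ≤ N T (u i) (u (i + 1)) * (if i + 1 = 0 ∨ i + 1 = k then 1 else 2) := by
        by_cases h : i + 1 = k
        · have h3 : i = k - 1 := by omega
          rw [if_pos (Or.inr h), h, h3]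
          simpa using hb
        · rw [if_neg (show ¬ (i + 1 = 0 ∨ i + 1 = k) by omega)]
          linarith
      linarith)
  beta_reduce at e2 e3 e4 e6
  rw [if_neg (show ¬ (1 = 0 ∨ 1 = k) by omega), if_pos (show 0 = 0 ∨ 0 = k by omega)] at e2
  rw [if_neg (show ¬ (k - 1 = 0 ∨ k - 1 = k) by omega), if_pos (show k = 0 ∨ k = k by omega)] at e3
  have hN01 : N T (u 0) (u 1) = 1 := by linarith
  have hNk : N T (u k) (u (k - 1)) = 1 := by linarith
  have y1 : ∀ i, (i = 0 ∨ i = k) → (if i = 0 ∨ i = k then (1 : ℤ) else 2) = 1 :=
    fun i h => if_pos h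
  have y2 : ∀ i, ¬ (i = 0 ∨ i = k) → (if i = 0 ∨ i = k then (1 : ℤ) else 2) = 2 :=
    fun i h => if_neg h
  have hint : ∀ i, 0 < i → i < k → (N T (u i) (u (i - 1)) = if i = 1 then 2 else 1) ∧
      (N T (u i) (u (i + 1)) = if i + 1 = k then 2 else 1) := by
    intro i hi hik
    have := e4 i hi (by omega)
    rw [y2 i (by omega)] at this
    have a1 := hp.one_le' (i := i - 1) (j := i) (by omega) (by omega)
    have a2 := hp.one_le (i := i) (j := i + 1) (by omega) (by omega)
    by_cases h3 : i = 1
    · have h5 : i - 1 = 0 := by omega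
      rw [if_pos h3]
      rw [y1 (i - 1) (by omega), h5] at this
      rw [h5] at a1 ⊢
      rw [← h3] at ha
      by_cases h4 : i + 1 = k
      · have h6 : k - 1 = i := by omega
        rw [h6, ← h4] at hb
        rw [if_pos h4]
        rw [y1 (i + 1) (by omega)] at this
        constructor <;> linarith
      · rw [if_neg h4]
        rw [y2 (i + 1) (by omega)] at this
        constructor <;> linarith
    · rw [if_neg h3]
      rw [y2 (i - 1) (by omega)] at this
      by_cases h4 : i + 1 = k
      · rw [if_pos h4]
        rw [y1 (i + 1) (by omega)] at this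
        have h5 : i = k - 1 := by omega
        rw [← h5, ← h4] at hb
        constructor <;> linarith
      · rw [if_neg h4]
        rw [y2 (i + 1) (by omega)] at this
        constructor <;> linarith
  have hwmid := w_const (T := T) (u := u) (a := 1) (b := k - 1) (fun i hi hik => by
    have h3 := (hint i (by omega) (by omega)).2
    rw [if_neg (by omega)] at h3
    have h4 := (hint (i + 1) (by omega) (by omega)).1
    rw [if_neg (by omega)] at h4
    exact ⟨h3, by simpa using h4⟩)
  have hw0 : T.w (u 0) = 2 * T.w (u 1) := by
    have h3 := (hint 1 (by omega) (by omega)).1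
    simp only [Nat.sub_self, if_true] at h3
    have := w_eq_of_N hN01 h3
    linarith
  have hNk' : N T (u (k - 1)) (u k) = 2 := by
    have h6 := (hint (k - 1) (by omega) (by omega)).2
    have h7 : k - 1 + 1 = k := by omega
    rw [h7, if_pos rfl] at h6
    exact h6
  have hwk : T.w (u k) = 2 * T.w (u 1) := by
    have h3 := w_eq_of_N hNk hNk'
    have h4 := hwmid (k - 1) (by omega) (by omega)
    linarith
  refine ⟨e1, ⟨fun i hi j hj h => hp.inj i (by omega) j (by omega) h, ?_, ?_, ?_⟩⟩
  · intro i hi
    have := e6 i (by omega) 0 (by omega)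
    simp only [true_or, if_true, mul_one] at this
    beta_reduce
    split_ifs with h3
    · rw [if_pos (by omega)] at this
      linarith
    · rw [if_neg (by omega)] at this
      linarith
  · intro i hi
    beta_reduce
    by_cases h0 : i = 0
    · rw [if_pos (by omega), h0, hw0]
    · by_cases h4 : i = k
      · rw [if_pos (by omega), h4, hwk]
      · rw [if_neg (by omega), hwmid i (by omega) (by omega)]
  · intro i j hij hj
    beta_reduce
    rw [a_eq]
    by_cases h3 : j = i + 1
    · rw [if_pos h3]
      subst h3
      by_cases h0 : i = 0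
      · subst h0
        rw [if_pos (by omega)]
        simp only [zero_add]
        rw [hN01, hw0]
        ring
      · rw [hwmid i (by omega) (by omega), (hint i (by omega) (by omega)).2]
        by_cases h4 : i + 1 = k
        · rw [if_pos h4, if_pos (by omega)]
          ring
        · rw [if_neg h4, if_neg (by omega)]
          ring
    · rw [if_neg h3, e5 i j (by omega) (by omega), mul_zero]

end K379.Affine
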