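import Groth.Agent.Models.K379.AffMain

/-!
# Minimal numerical types of genus one: the indices are (-2)-indices; orderings as permutations
-/

set_option autoImplicit false

open Finset

namespace K379.Affine

open Groth.Agent.Models.NumBasic

variable {n : ℕ} {T : _root_.Models.NumericalType n}

theorem isMinusTwo_of_genus_one (hn : 1 < n) (hmin : T.IsMinimal) (hg : T.genus = 1) (i : Fin n) :
    T.IsMinusTwo i := by
  by_contra h
  have h1 := contrib_pos_of_not_isMinusTwo T hn hmin i h
  have h2 := contrib_le T hn hmin i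
  rw [hg] at h2
  linarith

theorem Data.exists_perm {u : ℕ → Fin n} {M W : ℕ → ℤ} {A : ℕ → ℕ → ℤ} (h : Data T u M W A) :
    ∃ σ : Equiv.Perm (Fin n), (∀ i : Fin n, T.m (σ i) = M i.val) ∧
      (∀ i : Fin n, T.w (σ i) = W i.val) ∧
      (∀ i j : Fin n, i.val < j.val → T.a (σ i) (σ j) = A i.val j.val) := by
  have hinj : Function.Injective (fun i : Fin n => u i.val) := by
    intro i j hij
    exact Fin.ext (h.inj i.val i.2 j.val j.2 hij)
  refine ⟨Equiv.ofBijective (fun i : Fin n => u i.val) (Finite.injective_iff_bijective.1 hinj),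
    ?_, ?_, ?_⟩
  · intro i
    exact h.hm i.val i.2
  · intro i
    exact h.hw i.val i.2
  · intro i j hij
    exact h.ha i.val j.val hij j.2

end K379.Affine
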