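import Groth.Agent.Models.K379.AffChain

/-!
# Affine configurations with a fork

The D-type, the double fork and the sporadic types.
-/

set_option autoImplicit false

open Finset

namespace K379.Affine

open Groth.Agent.Models.NumBasic

variable {n : ℕ} {T : _root_.Models.NumericalType n}

/-- The key lemma for a path with one more index attached in the interior. -/
theorem tree_key {u : ℕ → Fin n} {k : ℕ} (h2 : ∀ i ≤ k, T.a (u i) (u i) = -2 * T.w (u i))
    (hp : IsPath T u k) (x : Fin n) (h2x : T.a x x = -2 * T.w x) (hx : ∀ i ≤ k, u i ≠ x) (c : ℕ) (hc0 : 0 < c) (hck : c < k)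
    (y : ℕ → ℤ) (z : ℤ) (hy : ∀ i ≤ k, 0 < y i) (hz : 0 < z)
    (h0 : 2 * y 0 ≤ N T (u 0) (u 1) * y 1)
    (he : 2 * y k ≤ N T (u k) (u (k - 1)) * y (k - 1))
    (hm : ∀ i, 0 < i → i < k → i ≠ c →
      2 * y i ≤ N T (u i) (u (i - 1)) * y (i - 1) + N T (u i) (u (i + 1)) * y (i + 1))
    (hc : 2 * y c ≤ N T (u c) (u (c - 1)) * y (c - 1) + N T (u c) (u (c + 1)) * y (c + 1) +
      N T (u c) x * z)
    (hzc : 2 * z ≤ N T x (u c) * y c) :
    k + 2 = n ∧ N T (u 0) (u 1) * y 1 = 2 * y 0 ∧ N T (u k) (u (k - 1)) * y (k - 1) = 2 * y k ∧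
    (∀ i, 0 < i → i < k → i ≠ c →
      N T (u i) (u (i - 1)) * y (i - 1) + N T (u i) (u (i + 1)) * y (i + 1) = 2 * y i) ∧
    (N T (u c) (u (c - 1)) * y (c - 1) + N T (u c) (u (c + 1)) * y (c + 1) +
      N T (u c) x * z = 2 * y c) ∧ (N T x (u c) * y c = 2 * z) ∧
    (∀ i j, i + 1 < j → j ≤ k → N T (u i) (u j) = 0) ∧
    (∀ i ≤ k, i ≠ c → N T (u i) x = 0) ∧
    (∀ i ≤ k, ∀ j ≤ k, T.m (u i) * y j = T.m (u j) * y i) ∧
    (∀ i ≤ k, T.m (u i) * z = T.m x * y i) := by
  set v : ℕ → Fin n := fun i => if i ≤ k then u i else x with hv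
  set Y : ℕ → ℤ := fun i => if i ≤ k then y i else z with hY
  have v1 : ∀ i ≤ k, v i = u i := fun i hi => if_pos hi
  have v2 : v (k + 1) = x := if_neg (by omega)
  have Y1 : ∀ i ≤ k, Y i = y i := fun i hi => if_pos hi
  have Y2 : Y (k + 1) = z := if_neg (by omega)
  obtain ⟨e1, -, e3, e4, e5⟩ := key v (k + 2) (fun i hi => by
      by_cases hi' : i ≤ k
      · rw [v1 i hi']; exact h2 i hi'
      · have : i = k + 1 := by omega
        rw [this, v2]; exact h2x) (by omega)
    (fun i hi j hj h => by
      by_cases hi' : i ≤ k <;> by_cases hj' : j ≤ k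
      · rw [v1 i hi', v1 j hj'] at h
        exact hp.inj i hi' j hj' h
      · have : j = k + 1 := by omega
        rw [v1 i hi', this, v2] at h
        exact absurd h (hx i hi')
      · have : i = k + 1 := by omega
        rw [v1 j hj', this, v2] at h
        exact absurd h.symm (hx j hj')
      · omega) Y
    (fun i hi => by
      by_cases hi' : i ≤ k
      · rw [Y1 i hi']; exact hy i hi'
      · have : i = k + 1 := by omega
        rw [this, Y2]; exact hz)
    (fun i => if i = k + 1 then {c} else if i = 0 then {1} else if i = k then {k - 1} else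
      if i = c then {c - 1, c + 1, k + 1} else {i - 1, i + 1})
    (fun i hi j hj => by
      split_ifs at hj with a1 a2 a3 a4 <;>
      simp only [Finset.mem_insert, Finset.mem_singleton] at hj <;> omega)
    (fun i hi => by
      split_ifs with a1 a2 a3 a4
      · rw [a1, Finset.sum_singleton, Y2, v2, v1 c (by omega), Y1 c (by omega)]
        exact hzc
      · rw [a2, Finset.sum_singleton, v1 0 (by omega), v1 1 (by omega), Y1 0 (by omega),
          Y1 1 (by omega)]
        exact h0
      · rw [a3, Finset.sum_singleton, v1 k (by omega), v1 (k - 1) (by omega), Y1 k (by omega),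
          Y1 (k - 1) (by omega)]
        exact he
      · rw [a4, Finset.sum_insert (by simp only [Finset.mem_insert, Finset.mem_singleton]; omega),
          Finset.sum_pair (by omega), v1 c (by omega), v1 (c - 1) (by omega),
          v1 (c + 1) (by omega), v2, Y1 c (by omega), Y1 (c - 1) (by omega),
          Y1 (c + 1) (by omega), Y2]
        linarith
      · rw [Finset.sum_pair (by omega), v1 i (by omega), v1 (i - 1) (by omega),
          v1 (i + 1) (by omega), Y1 i (by omega), Y1 (i - 1) (by omega), Y1 (i + 1) (by omega)]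
        exact hm i (by omega) (by omega) a4)
  refine ⟨e1, ?_, ?_, ?_, ?_, ?_, ?_, ?_, ?_, ?_⟩
  · have := e3 0 (by omega)
    rw [if_neg (by omega), if_pos rfl, Finset.sum_singleton, v1 0 (by omega), v1 1 (by omega),
      Y1 0 (by omega), Y1 1 (by omega)] at this
    exact this
  · have := e3 k (by omega)
    rw [if_neg (by omega), if_neg (by omega), if_pos rfl, Finset.sum_singleton, v1 k (by omega),
      v1 (k - 1) (by omega), Y1 k (by omega), Y1 (k - 1) (by omega)] at this
    exact this
  · intro i hi hik hic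
    have := e3 i (by omega)
    rw [if_neg (by omega), if_neg (by omega), if_neg (by omega), if_neg hic,
      Finset.sum_pair (by omega), v1 i (by omega), v1 (i - 1) (by omega),
      v1 (i + 1) (by omega), Y1 i (by omega), Y1 (i - 1) (by omega), Y1 (i + 1) (by omega)] at this
    exact this
  · have := e3 c (by omega)
    rw [if_neg (by omega), if_neg (by omega), if_neg (by omega), if_pos rfl,
      Finset.sum_insert (by simp only [Finset.mem_insert, Finset.mem_singleton]; omega),
      Finset.sum_pair (by omega), v1 c (by omega), v1 (c - 1) (by omega),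
      v1 (c + 1) (by omega), v2, Y1 c (by omega), Y1 (c - 1) (by omega),
      Y1 (c + 1) (by omega), Y2] at this
    linarith
  · have := e3 (k + 1) (by omega)
    rw [if_pos rfl, Finset.sum_singleton, Y2, v2, v1 c (by omega), Y1 c (by omega)] at this
    exact this
  · intro i j hij hj
    have := e4 i (by omega) j (by omega) (by omega) (by
      split_ifs with a1 a2 a3 a4 <;>
      simp only [Finset.mem_insert, Finset.mem_singleton] <;> omega)
    rwa [v1 i (by omega), v1 j (by omega)] at this
  · intro i hi hic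
    have := e4 i (by omega) (k + 1) (by omega) (by omega) (by
      split_ifs with a1 a2 a3 a4 <;>
      simp only [Finset.mem_insert, Finset.mem_singleton] <;> omega)
    rwa [v1 i (by omega), v2] at this
  · intro i hi j hj
    have := e5 i (by omega) j (by omega)
    rwa [v1 i hi, v1 j hj, Y1 i hi, Y1 j hj] at this
  · intro i hi
    have := e5 i (by omega) (k + 1) (by omega)
    rwa [v1 i hi, v2, Y1 i hi, Y2] at this

/-- The ordering `u 0, …, u k, x`. -/
def ext (u : ℕ → Fin n) (k : ℕ) (x : Fin n) : ℕ → Fin n := fun i => if i ≤ k then u i else x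

theorem ext_le {u : ℕ → Fin n} {k : ℕ} {x : Fin n} {i : ℕ} (h : i ≤ k) : ext u k x i = u i :=
  if_pos h

theorem ext_last {u : ℕ → Fin n} {k : ℕ} {x : Fin n} : ext u k x (k + 1) = x :=
  if_neg (by omega)

theorem ext_inj {u : ℕ → Fin n} {k : ℕ} (hp : IsPath T u k)
    {x : Fin n} (hx : ∀ i ≤ k, u i ≠ x) (hn : k + 2 = n) : ∀ i < n, ∀ j < n,
      ext u k x i = ext u k x j → i = j := by
  intro i hi j hj h
  by_cases hi' : i ≤ k <;> by_cases hj' : j ≤ k
  · rw [ext_le hi', ext_le hj'] at h
    exact hp.inj i hi' j hj' h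
  · have : j = k + 1 := by omega
    rw [ext_le hi', this, ext_last] at h
    exact absurd h (hx i hi')
  · have : i = k + 1 := by omega
    rw [ext_le hj', this, ext_last] at h
    exact absurd h.symm (hx j hj')
  · omega

theorem b1 {u : ℕ → Fin n} {k : ℕ} (h2 : ∀ i ≤ k, T.a (u i) (u i) = -2 * T.w (u i))
    (hp : IsPath T u k)
    (hk : 2 ≤ k) (x : Fin n) (h2x : T.a x x = -2 * T.w x) (hx : ∀ i ≤ k, u i ≠ x) (hax : Adj T (u (k - 1)) x)
    (ha : 2 ≤ N T (u 1) (u 0)) :
    k + 2 = n ∧ DB1 T (ext u k x) (T.m x) (T.w x) := by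
  have y1 : ∀ i, (i = 0 ∨ i = k) → (if i = 0 ∨ i = k then (1 : ℤ) else 2) = 1 :=
    fun i h => if_pos h
  have y2 : ∀ i, ¬ (i = 0 ∨ i = k) → (if i = 0 ∨ i = k then (1 : ℤ) else 2) = 2 :=
    fun i h => if_neg h
  have ax1 := hax.one_le
  have ax2 := hax.symm.one_le
  obtain ⟨e1, e2, e3, e4, e5, e6, e7, e8, e9, e10⟩ := tree_key h2 hp x h2x hx (k - 1) (by omega)
    (by omega) (fun i => if i = 0 ∨ i = k then 1 else 2) 1
    (fun i hi => by beta_reduce; split_ifs <;> norm_num) one_pos
    (by
      beta_reduce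
      rw [y1 0 (by omega), y2 1 (by omega)]
      have a1 := hp.one_le (i := 0) (j := 1) (by omega) (by omega)
      linarith)
    (by
      beta_reduce
      rw [y1 k (by omega), y2 (k - 1) (by omega)]
      have a1 := hp.one_le' (i := k - 1) (j := k) (by omega) (by omega)
      linarith)
    (fun i hi hik hic => by
      beta_reduce
      rw [y2 i (by omega), y2 (i + 1) (by omega)]
      have a1 := hp.one_le' (i := i - 1) (j := i) (by omega) (by omega)
      have a2 := hp.one_le (i := i) (j := i + 1) (by omega) (by omega)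
      by_cases h : i = 1
      · have h3 : i - 1 = 0 := by omega
        rw [y1 (i - 1) (by omega), h3]
        rw [← h] at ha
        linarith
      · rw [y2 (i - 1) (by omega)]
        linarith)
    (by
      beta_reduce
      have h5 : k - 1 + 1 = k := by omega
      rw [y2 (k - 1) (by omega), h5, y1 k (by omega)]
      have a1 := hp.one_le' (i := k - 1 - 1) (j := k - 1) (by omega) (by omega)
      have a2 := hp.one_le (i := k - 1) (j := k) (by omega) (by omega)
      by_cases h : k - 1 = 1
      · have h3 : k - 1 - 1 = 0 := by omega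
        rw [y1 (k - 1 - 1) (by omega), h3]
        rw [← h] at ha
        linarith
      · rw [y2 (k - 1 - 1) (by omega)]
        linarith)
    (by
      beta_reduce
      rw [y2 (k - 1) (by omega)]
      linarith)
  beta_reduce at e2 e3 e4 e5 e6 e9 e10
  rw [y1 0 (by omega), y2 1 (by omega)] at e2
  rw [y1 k (by omega), y2 (k - 1) (by omega)] at e3
  have h5 : k - 1 + 1 = k := by omega
  rw [y2 (k - 1) (by omega), h5, y1 k (by omega)] at e5
  rw [y2 (k - 1) (by omega)] at e6
  have hN01 : N T (u 0) (u 1) = 1 := by linarith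
  have hNk : N T (u k) (u (k - 1)) = 1 := by linarith
  have hNx : N T x (u (k - 1)) = 1 := by linarith
  have hc : N T (u (k - 1)) (u (k - 1 - 1)) = (if k - 1 = 1 then 2 else 1) ∧
      N T (u (k - 1)) (u k) = 1 ∧ N T (u (k - 1)) x = 1 := by
    have a1 := hp.one_le' (i := k - 1 - 1) (j := k - 1) (by omega) (by omega)
    have a2 := hp.one_le (i := k - 1) (j := k) (by omega) (by omega)
    by_cases h : k - 1 = 1
    · have h3 : k - 1 - 1 = 0 := by omega
      rw [if_pos h]
      rw [y1 (k - 1 - 1) (by omega), h3] at e5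
      rw [h3] at a1 ⊢
      rw [← h] at ha
      refine ⟨?_, ?_, ?_⟩ <;> linarith
    · rw [if_neg h]
      rw [y2 (k - 1 - 1) (by omega)] at e5
      refine ⟨?_, ?_, ?_⟩ <;> linarith
  have hint : ∀ i, 0 < i → i < k → (N T (u i) (u (i - 1)) = if i = 1 then 2 else 1) ∧
      (N T (u i) (u (i + 1)) = 1) := by
    intro i hi hik
    by_cases hic : i = k - 1
    · rw [hic, h5]
      exact ⟨hc.1, hc.2.1⟩
    have := e4 i hi (by omega) hic
    rw [y2 i (by omega), y2 (i + 1) (by omega)] at this
    have a1 := hp.one_le' (i := i - 1) (j := i) (by omega) (by omega)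
    have a2 := hp.one_le (i := i) (j := i + 1) (by omega) (by omega)
    by_cases h3 : i = 1
    · have h5 : i - 1 = 0 := by omega
      rw [if_pos h3]
      rw [y1 (i - 1) (by omega), h5] at this
      rw [h5] at a1 ⊢
      rw [← h3] at ha
      constructor <;> linarith
    · rw [if_neg h3]
      rw [y2 (i - 1) (by omega)] at this
      constructor <;> linarith
  have hwmid := w_const (T := T) (u := u) (a := 1) (b := k) (fun i hi hik => by
    refine ⟨(hint i (by omega) (by omega)).2, ?_⟩
    by_cases h4 : i + 1 = k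
    · rw [h4]
      have h6 : i = k - 1 := by omega
      rw [h6]
      exact hNk
    · have h4 := (hint (i + 1) (by omega) (by omega)).1
      rw [if_neg (by omega)] at h4
      exact h4)
  have hwx : T.w x = T.w (u 1) := by
    rw [← hwmid (k - 1) (by omega) (by omega)]
    exact w_eq_of_N_one hNx hc.2.2
  have hw0 : T.w (u 0) = 2 * T.w x := by
    have h3 := (hint 1 (by omega) (by omega)).1
    simp only [Nat.sub_self, if_true] at h3
    have := w_eq_of_N hN01 h3
    linarith
  refine ⟨e1, ⟨ext_inj hp hx e1, ?_, ?_, ?_⟩⟩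
  · intro i hi
    by_cases hik : i ≤ k
    · rw [ext_le hik]
      have := e10 i hik
      rw [mul_one] at this
      rw [this]
      by_cases h6 : i = 0 ∨ i = k
      · rw [if_pos h6, if_pos (by omega), mul_one]
      · rw [if_neg h6, if_neg (by omega)]
        ring
    · have : i = k + 1 := by omega
      rw [this, ext_last, if_pos (by omega)]
  · intro i hi
    by_cases hik : i ≤ k
    · rw [ext_le hik]
      by_cases h6 : i = 0
      · rw [if_pos h6, h6, hw0]
      · rw [if_neg h6, hwmid i (by omega) (by omega), hwx]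
    · have : i = k + 1 := by omega
      rw [this, ext_last, if_neg (by omega)]
  · intro i j hij hj
    beta_reduce
    by_cases hjk : j ≤ k
    · rw [ext_le hjk, ext_le (by omega), a_eq]
      by_cases h3 : j = i + 1
      · subst h3
        by_cases h0 : i = 0
        · subst h0
          rw [if_pos (by omega)]
          simp only [zero_add]
          rw [hN01, hw0]
          ring
        · rw [hwmid i (by omega) (by omega), (hint i (by omega) (by omega)).2, if_neg (by omega),
            if_pos (by omega), hwx, mul_one]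
      · rw [e7 i j (by omega) (by omega), mul_zero, if_neg (by omega), if_neg (by omega)]
    · have hj' : j = k + 1 := by omega
      rw [hj', ext_last, ext_le (by omega), a_eq]
      by_cases h3 : i = k - 1
      · rw [h3, hc.2.2, hwmid (k - 1) (by omega) (by omega), if_neg (by omega),
          if_pos (by omega), hwx, mul_one]
      · rw [e8 i (by omega) h3, mul_zero, if_neg (by omega), if_neg (by omega)]

theorem b2 {u : ℕ → Fin n} {k : ℕ} (h2 : ∀ i ≤ k, T.a (u i) (u i) = -2 * T.w (u i))
    (hp : IsPath T u k)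
    (hk : 2 ≤ k) (x : Fin n) (h2x : T.a x x = -2 * T.w x) (hx : ∀ i ≤ k, u i ≠ x) (hax : Adj T (u (k - 1)) x)
    (ha : 2 ≤ N T (u 0) (u 1)) :
    k + 2 = n ∧ DB2 T (ext u k x) (T.m x) (T.w (u 0)) := by
  have y1 : ∀ i, (i = k) → (if i = k then (1 : ℤ) else 2) = 1 :=
    fun i h => if_pos h
  have y2 : ∀ i, ¬ (i = k) → (if i = k then (1 : ℤ) else 2) = 2 :=
    fun i h => if_neg h
  have ax1 := hax.one_le
  have ax2 := hax.symm.one_le
  obtain ⟨e1, e2, e3, e4, e5, e6, e7, e8, e9, e10⟩ := tree_key h2 hp x h2x hx (k - 1) (by omega)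
    (by omega) (fun i => if i = k then 1 else 2) 1
    (fun i hi => by beta_reduce; split_ifs <;> norm_num) one_pos
    (by
      beta_reduce
      rw [y2 0 (by omega), y2 1 (by omega)]
      linarith)
    (by
      beta_reduce
      rw [y1 k (by omega), y2 (k - 1) (by omega)]
      have a1 := hp.one_le' (i := k - 1) (j := k) (by omega) (by omega)
      linarith)
    (fun i hi hik hic => by
      beta_reduce
      rw [y2 i (by omega), y2 (i + 1) (by omega), y2 (i - 1) (by omega)]
      have a1 := hp.one_le' (i := i - 1) (j := i) (by omega) (by omega)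
      have a2 := hp.one_le (i := i) (j := i + 1) (by omega) (by omega)
      linarith)
    (by
      beta_reduce
      have h5 : k - 1 + 1 = k := by omega
      rw [y2 (k - 1) (by omega), h5, y1 k (by omega), y2 (k - 1 - 1) (by omega)]
      have a1 := hp.one_le' (i := k - 1 - 1) (j := k - 1) (by omega) (by omega)
      have a2 := hp.one_le (i := k - 1) (j := k) (by omega) (by omega)
      linarith)
    (by
      beta_reduce
      rw [y2 (k - 1) (by omega)]
      linarith)
  beta_reduce at e2 e3 e4 e5 e6 e9 e10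
  rw [y2 0 (by omega), y2 1 (by omega)] at e2
  rw [y1 k (by omega), y2 (k - 1) (by omega)] at e3
  have h5 : k - 1 + 1 = k := by omega
  rw [y2 (k - 1) (by omega), h5, y1 k (by omega), y2 (k - 1 - 1) (by omega)] at e5
  rw [y2 (k - 1) (by omega)] at e6
  have hN01 : N T (u 0) (u 1) = 2 := by linarith
  have hNk : N T (u k) (u (k - 1)) = 1 := by linarith
  have hNx : N T x (u (k - 1)) = 1 := by linarith
  have hc : N T (u (k - 1)) (u (k - 1 - 1)) = 1 ∧
      N T (u (k - 1)) (u k) = 1 ∧ N T (u (k - 1)) x = 1 := by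
    have a1 := hp.one_le' (i := k - 1 - 1) (j := k - 1) (by omega) (by omega)
    have a2 := hp.one_le (i := k - 1) (j := k) (by omega) (by omega)
    refine ⟨?_, ?_, ?_⟩ <;> linarith
  have hint : ∀ i, 0 < i → i < k → (N T (u i) (u (i - 1)) = 1) ∧
      (N T (u i) (u (i + 1)) = 1) := by
    intro i hi hik
    by_cases hic : i = k - 1
    · rw [hic, h5]
      exact ⟨hc.1, hc.2.1⟩
    have := e4 i hi (by omega) hic
    rw [y2 i (by omega), y2 (i + 1) (by omega), y2 (i - 1) (by omega)] at this
    have a1 := hp.one_le' (i := i - 1) (j := i) (by omega) (by omega)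
    have a2 := hp.one_le (i := i) (j := i + 1) (by omega) (by omega)
    constructor <;> linarith
  have hwmid := w_const (T := T) (u := u) (a := 1) (b := k) (fun i hi hik => by
    refine ⟨(hint i (by omega) (by omega)).2, ?_⟩
    by_cases h4 : i + 1 = k
    · rw [h4]
      have h6 : i = k - 1 := by omega
      rw [h6]
      exact hNk
    · exact (hint (i + 1) (by omega) (by omega)).1)
  have hw1 : T.w (u 1) = 2 * T.w (u 0) := by
    have h3 := (hint 1 (by omega) (by omega)).1
    have := w_eq_of_N hN01 h3
    linarith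
  have hwx : T.w x = 2 * T.w (u 0) := by
    rw [← hw1, ← hwmid (k - 1) (by omega) (by omega)]
    exact w_eq_of_N_one hNx hc.2.2
  refine ⟨e1, ⟨ext_inj hp hx e1, ?_, ?_, ?_⟩⟩
  · intro i hi
    by_cases hik : i ≤ k
    · rw [ext_le hik]
      have := e10 i hik
      rw [mul_one] at this
      rw [this]
      by_cases h6 : i = k
      · rw [if_pos h6, if_pos (by omega), mul_one]
      · rw [if_neg h6, if_neg (by omega)]
        ring
    · have : i = k + 1 := by omega
      rw [this, ext_last, if_pos (by omega)]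
  · intro i hi
    by_cases hik : i ≤ k
    · rw [ext_le hik]
      by_cases h6 : i = 0
      · rw [if_pos h6, h6]
      · rw [if_neg h6, hwmid i (by omega) (by omega), hw1]
    · have : i = k + 1 := by omega
      rw [this, ext_last, if_neg (by omega), hwx]
  · intro i j hij hj
    beta_reduce
    by_cases hjk : j ≤ k
    · rw [ext_le hjk, ext_le (by omega), a_eq]
      by_cases h3 : j = i + 1
      · subst h3
        rw [if_pos (by omega)]
        by_cases h0 : i = 0
        · subst h0
          simp only [zero_add]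
          rw [hN01]
          ring
        · rw [hwmid i (by omega) (by omega), (hint i (by omega) (by omega)).2, hw1]
          ring
      · rw [e7 i j (by omega) (by omega), mul_zero, if_neg (by omega)]
    · have hj' : j = k + 1 := by omega
      rw [hj', ext_last, ext_le (by omega), a_eq]
      by_cases h3 : i = k - 1
      · rw [h3, hc.2.2, hwmid (k - 1) (by omega) (by omega), if_pos (by omega), hw1]
        ring
      · rw [e8 i (by omega) h3, mul_zero, if_neg (by omega)]

/-- The key lemma for simply laced configurations. -/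
theorem simple_key (h2 : ∀ i, T.a i i = -2 * T.w i) (v : ℕ → Fin n) (K : ℕ) (hK : 0 < K)
    (hv : ∀ i < K, ∀ j < K, v i = v j → i = j)
    (y : ℕ → ℤ) (hy : ∀ i < K, 0 < y i)
    (s : ℕ → Finset ℕ) (hs : ∀ i < K, ∀ j ∈ s i, j < K ∧ j ≠ i)
    (hN : ∀ i < K, ∀ j ∈ s i, 1 ≤ N T (v i) (v j))
    (hsum : ∀ i < K, ∑ j ∈ s i, y j = 2 * y i) :
    K = n ∧ (∀ i < K, T.w (v i) = T.w (v 0)) ∧
    (∀ i < K, ∀ j < K, i ≠ j → T.a (v i) (v j) = if j ∈ s i then T.w (v 0) else 0) ∧
    (∀ i < K, ∀ j < K, T.m (v i) * y j = T.m (v j) * y i) := by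
  classical
  obtain ⟨e1, hsurj, e3, e4, e5⟩ := key v K (fun i _ => h2 _) hK hv y hy s hs (fun i hi => by
    rw [← hsum i hi]
    refine Finset.sum_le_sum fun j hj => ?_
    have h3 := hN i hi j hj
    have h4 := hy j (hs i hi j hj).1
    nlinarith)
  have hN1 : ∀ i < K, ∀ j ∈ s i, N T (v i) (v j) = 1 := by
    intro i hi j hj
    have h3 := e3 i hi
    rw [← hsum i hi] at h3
    have h4 := (Finset.sum_eq_sum_iff_of_le (s := s i) (f := fun j => y j)
      (g := fun j => N T (v i) (v j) * y j) (fun j hj => by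
        have h3 := hN i hi j hj
        have h4 := hy j (hs i hi j hj).1
        nlinarith)).1 h3.symm j hj
    beta_reduce at h4
    have h5 := hy j (hs i hi j hj).1
    have h6 : (N T (v i) (v j) - 1) * y j = 0 := by linarith
    rcases mul_eq_zero.1 h6 with h7 | h7
    · linarith
    · exact absurd h7 h5.ne'
  have h01 : ∀ x z : Fin n, x ≠ z → N T x z ≠ 0 → N T x z = 1 := by
    intro x z hxz hne
    obtain ⟨i, hi, rfl⟩ := hsurj x
    obtain ⟨j, hj, rfl⟩ := hsurj z
    by_cases hjs : j ∈ s i
    · exact hN1 i hi j hjs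
    · exact absurd (e4 i hi j hj (fun h => hxz (by rw [h])) hjs) hne
  have hw : ∀ x : Fin n, T.w x = T.w (v 0) := by
    by_contra hne
    push Not at hne
    obtain ⟨x, hx⟩ := hne
    obtain ⟨i, hi, j, hj, hij⟩ := T.connected (Finset.univ.filter fun x => T.w x = T.w (v 0))
      ⟨v 0, by simp⟩ (by
        intro h'
        have h1 : x ∈ (Finset.univ.filter fun x => T.w x = T.w (v 0)) := by
          rw [h']; exact Finset.mem_univ _
        exact hx (Finset.mem_filter.1 h1).2)
    rw [Finset.mem_filter] at hi hj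
    have hj' : T.w j ≠ T.w (v 0) := fun h' => hj ⟨Finset.mem_univ _, h'⟩
    have hne : i ≠ j := fun h => hj' (h ▸ hi.2)
    have n1 : N T i j ≠ 0 := fun h => hij ((N_eq_zero_iff T i j).1 h)
    have n2 : N T j i ≠ 0 := fun h => n1 ((N_eq_zero_comm T i j).2 h)
    exact hj' ((w_eq_of_N_one (h01 j i hne.symm n2) (h01 i j hne n1)).trans hi.2)
  refine ⟨e1, fun i _ => hw _, ?_, e5⟩
  intro i hi j hj hij
  rw [a_eq, hw]
  split_ifs with h
  · rw [hN1 i hi j h, mul_one]
  · rw [e4 i hi j hj hij.symm h, mul_zero]

/-- The ordering `x, u 0, …, u k, x'`. -/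
def ext2 (u : ℕ → Fin n) (k : ℕ) (x x' : Fin n) : ℕ → Fin n :=
  fun i => if i = 0 then x else if i ≤ k + 1 then u (i - 1) else x'

theorem dd (h2 : ∀ i, T.a i i = -2 * T.w i) {u : ℕ → Fin n} {k : ℕ} (hp : IsPath T u k)
    (hk : 2 ≤ k) (x x' : Fin n) (hxx : x ≠ x') (hx : ∀ i ≤ k, u i ≠ x) (hx' : ∀ i ≤ k, u i ≠ x')
    (hax : Adj T (u 1) x) (hax' : Adj T (u (k - 1)) x') :
    k + 3 = n ∧ DDD T (ext2 u k x x') (T.m x) (T.w x) := by
  set v := ext2 u k x x' with hv
  have v0 : v 0 = x := if_pos rfl
  have v1 : ∀ i ≤ k, v (i + 1) = u i := fun i hi => by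
    rw [hv]; unfold ext2
    rw [if_neg (by omega), if_pos (by omega), Nat.add_sub_cancel]
  have v1' : ∀ i, 1 ≤ i → i ≤ k + 1 → v i = u (i - 1) := fun i hi hik => by
    rw [hv]; unfold ext2
    rw [if_neg (by omega), if_pos (by omega)]
  have v2 : v (k + 2) = x' := by
    rw [hv]; unfold ext2
    rw [if_neg (by omega), if_neg (by omega)]
  have hinj : ∀ i < k + 3, ∀ j < k + 3, v i = v j → i = j := by
    have key0 : ∀ i < k + 3, v i = x → i = 0 := by
      intro i hi h
      by_contra h0
      by_cases h1 : i ≤ k + 1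
      · rw [v1' i (by omega) h1] at h
        exact hx _ (by omega) h
      · have : i = k + 2 := by omega
        rw [this, v2] at h
        exact hxx h.symm
    have key1 : ∀ i < k + 3, v i = x' → i = k + 2 := by
      intro i hi h
      by_contra h0
      by_cases h1 : i = 0
      · rw [h1, v0] at h
        exact hxx h
      · rw [v1' i (by omega) (by omega)] at h
        exact hx' _ (by omega) h
    intro i hi j hj h
    by_cases hi0 : i = 0
    · rw [hi0, v0] at h
      rw [hi0, key0 j hj h.symm]
    · by_cases hj0 : j = 0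
      · rw [hj0, v0] at h
        exact absurd (key0 i hi h) hi0
      · by_cases hi1 : i = k + 2
        · rw [hi1, v2] at h
          rw [hi1, key1 j hj h.symm]
        · by_cases hj1 : j = k + 2
          · rw [hj1, v2] at h
            exact absurd (key1 i hi h) hi1
          · rw [v1' i (by omega) (by omega), v1' j (by omega) (by omega)] at h
            have := hp.inj (i - 1) (by omega) (j - 1) (by omega) h
            omega
  -- adjacency in the new labelling
  have hadj : ∀ i j, (j = i + 1 ∧ 1 ≤ i ∧ j ≤ k + 1) ∨ (i = 0 ∧ j = 2) ∨ (i = k ∧ j = k + 2) →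
      1 ≤ N T (v i) (v j) ∧ 1 ≤ N T (v j) (v i) := by
    intro i j h
    rcases h with ⟨h, h', h''⟩ | ⟨h, h'⟩ | ⟨h, h'⟩
    · rw [v1' i (by omega) (by omega), v1' j (by omega) (by omega)]
      exact ⟨hp.one_le (by omega) (by omega), hp.one_le' (by omega) (by omega)⟩
    · rw [h, h', v0, v1 1 (by omega)]
      exact ⟨hax.symm.one_le, hax.one_le⟩
    · rw [h, h', v2, v1' k (by omega) (by omega)]
      exact ⟨hax'.one_le, hax'.symm.one_le⟩
  have y1 : ∀ i, (i ≤ 1 ∨ k + 1 ≤ i) → (if i ≤ 1 ∨ k + 1 ≤ i then (1 : ℤ) else 2) = 1 :=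
    fun i h => if_pos h
  have y2 : ∀ i, ¬ (i ≤ 1 ∨ k + 1 ≤ i) → (if i ≤ 1 ∨ k + 1 ≤ i then (1 : ℤ) else 2) = 2 :=
    fun i h => if_neg h
  obtain ⟨e1, e2, e3, e5⟩ := simple_key h2 v (k + 3) (by omega) hinj
    (fun i => if i ≤ 1 ∨ k + 1 ≤ i then 1 else 2)
    (fun i hi => by beta_reduce; split_ifs <;> norm_num)
    (fun i => if i ≤ 1 then {2} else if k + 1 ≤ i then {k} else
      if k = 2 then {0, 1, 3, 4} else
      if i = 2 then {0, 1, 3} else if i = k then {k - 1, k + 1, k + 2} else {i - 1, i + 1})
    (fun i hi j hj => by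
      split_ifs at hj with a1 a2 a3 a4 a5 <;>
      simp only [Finset.mem_insert, Finset.mem_singleton] at hj <;> omega)
    (fun i hi j hj => by
      have h3 : ((j = i + 1 ∧ 1 ≤ i ∧ j ≤ k + 1) ∨ (i = 0 ∧ j = 2) ∨ (i = k ∧ j = k + 2)) ∨
        ((i = j + 1 ∧ 1 ≤ j ∧ i ≤ k + 1) ∨ (j = 0 ∧ i = 2) ∨ (j = k ∧ i = k + 2)) := by
        split_ifs at hj with a1 a2 a3 a4 a5 <;>
        simp only [Finset.mem_insert, Finset.mem_singleton] at hj <;> omega
      rcases h3 with h3 | h3
      · exact (hadj i j h3).1
      · exact (hadj j i h3).2)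
    (fun i hi => by
      beta_reduce
      by_cases c1 : i ≤ 1
      · rw [if_pos c1, y1 i (by omega), Finset.sum_singleton, y2 2 (by omega)]; norm_num
      by_cases c2 : k + 1 ≤ i
      · rw [if_neg c1, if_pos c2, y1 i (by omega), Finset.sum_singleton, y2 k (by omega)]
        norm_num
      rw [if_neg c1, if_neg c2, y2 i (by omega)]
      by_cases c3 : k = 2
      · rw [if_pos c3, Finset.sum_insert (by decide), Finset.sum_insert (by decide),
          Finset.sum_pair (by decide), y1 0 (by omega), y1 1 (by omega), y1 3 (by omega),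
          y1 4 (by omega)]
        norm_num
      rw [if_neg c3]
      by_cases c4 : i = 2
      · rw [if_pos c4, Finset.sum_insert (by decide), Finset.sum_pair (by decide),
          y1 0 (by omega), y1 1 (by omega), y2 3 (by omega)]
        norm_num
      rw [if_neg c4]
      by_cases c5 : i = k
      · rw [if_pos c5,
          Finset.sum_insert (by simp only [Finset.mem_insert, Finset.mem_singleton]; omega),
          Finset.sum_pair (by omega), y2 (k - 1) (by omega), y1 (k + 1) (by omega),
          y1 (k + 2) (by omega)]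
        norm_num
      · rw [if_neg c5, Finset.sum_pair (by omega), y2 (i - 1) (by omega), y2 (i + 1) (by omega)]
        norm_num)
  refine ⟨e1, ⟨by intro i hi j hj; exact hinj i (by omega) j (by omega), ?_, ?_, ?_⟩⟩
  · intro i hi
    have := e5 i (by omega) 0 (by omega)
    rw [y1 0 (by omega), mul_one, v0] at this
    rw [this]
    beta_reduce
    by_cases h : i ≤ 1 ∨ k + 1 ≤ i
    · rw [if_pos h, if_pos (by omega), mul_one]
    · rw [if_neg h, if_neg (by omega), mul_comm]
  · intro i hi
    have := e2 i (by omega)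
    rwa [v0] at this
  · intro i j hij hj
    have := e3 i (by omega) j (by omega) (by omega)
    rw [v0] at this
    rw [this]
    beta_reduce
    have h3 : (j ∈ (if i ≤ 1 then ({2} : Finset ℕ) else if k + 1 ≤ i then {k} else
      if k = 2 then {0, 1, 3, 4} else
      if i = 2 then {0, 1, 3} else if i = k then {k - 1, k + 1, k + 2} else {i - 1, i + 1})) ↔
      (i = 0 ∧ j = 2 ∨ i = 1 ∧ j = 2 ∨ (j = i + 1 ∧ 2 ≤ i ∧ j + 2 ≤ n) ∨
        (i + 3 = n ∧ j + 1 = n)) := by
      split_ifs with a1 a2 a3 a4 a5 <;>
      simp only [Finset.mem_insert, Finset.mem_singleton] <;> omega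
    simp only [h3]

end K379.Affine
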