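import Groth.Agent.Models.K379.AffSpor

/-!
# The classification of numerical types all of whose indices satisfy `a i i = - 2 w i` (`n ≥ 3`)
-/

set_option autoImplicit false

open Finset

namespace K379.Affine

open Groth.Agent.Models.NumBasic

variable {n : ℕ} (T : _root_.Models.NumericalType n)

/-- The conclusion of the classification. -/
def Concl : Prop := ∃ (u : ℕ → Fin n) (m w : ℤ),
  DCyc T u m w ∨ DC1 T u m w ∨ DC2 T u m w ∨ DC3 T u m w ∨
  (4 ≤ n ∧ DB1 T u m w) ∨ (4 ≤ n ∧ DB2 T u m w) ∨ (5 ≤ n ∧ DDD T u m w) ∨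
  (n = 7 ∧ DE6 T u m w) ∨ (n = 8 ∧ DE7 T u m w) ∨ (n = 9 ∧ DE8 T u m w) ∨
  (n = 5 ∧ DF1 T u m w) ∨ (n = 5 ∧ DF2 T u m w) ∨
  (n = 3 ∧ DG1 T u m w) ∨ (n = 3 ∧ DG2 T u m w)

variable {T}

theorem concl_cyc (h2 : ∀ i, T.a i i = -2 * T.w i) {u : ℕ → Fin n} {k : ℕ} (hp : IsPath T u k)
    (hk : 2 ≤ k) (hc : Adj T (u k) (u 0)) : Concl T :=
  ⟨_, _, _, Or.inl (cyc (fun i _ => h2 (u i)) hp hk hc).2⟩

/-- An edge with a Cartan number at least two. -/
def Multi (T : _root_.Models.NumericalType n) (i j : Fin n) : Prop := 2 ≤ N T i j ∨ 2 ≤ N T j i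

theorem Multi.symm {i j : Fin n} (h : Multi T i j) : Multi T j i := Or.symm h

theorem N_one_of_not_multi {i j : Fin n} (h : Adj T i j) (hm : ¬ Multi T i j) : N T i j = 1 := by
  unfold Multi at hm
  have := h.one_le
  omega

theorem concl_c (h2 : ∀ i, T.a i i = -2 * T.w i) {u : ℕ → Fin n} {k : ℕ} (hp : IsPath T u k)
    (hk : 2 ≤ k) (h0 : Multi T (u 0) (u 1)) (h1 : Multi T (u (k - 1)) (u k)) : Concl T := by
  rcases h0 with h0 | h0
  · rcases h1 with h1 | h1
    · exact ⟨_, _, _, Or.inr (Or.inl (c1 (fun i _ => h2 (u i)) hp hk h0 h1).2)⟩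
    · exact ⟨_, _, _, Or.inr (Or.inr (Or.inl (c2 (fun i _ => h2 (u i)) hp hk h0 h1).2))⟩
  · rcases h1 with h1 | h1
    · exact ⟨_, _, _, Or.inr (Or.inr (Or.inr (Or.inl (c3 (fun i _ => h2 (u i)) hp hk h0 h1).2)))⟩
    · refine ⟨_, _, _, Or.inr (Or.inl (c1 (fun i _ => h2 _) hp.reverse hk ?_ ?_).2)⟩
      · exact h1
      · beta_reduce
        have e1 : k - (k - 1) = 1 := by omega
        rw [e1, Nat.sub_self]
        exact h0

theorem concl_b (h2 : ∀ i, T.a i i = -2 * T.w i) {u : ℕ → Fin n} {k : ℕ} (hp : IsPath T u k)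
    (hk : 2 ≤ k) (x : Fin n) (hx : ∀ i ≤ k, u i ≠ x) (hax : Adj T (u (k - 1)) x)
    (h0 : Multi T (u 0) (u 1)) : k + 2 = n ∧ Concl T := by
  rcases h0 with h0 | h0
  · obtain ⟨e, h⟩ := b2 (fun i _ => h2 (u i)) hp hk x (h2 x) hx hax h0
    exact ⟨e, _, _, _, Or.inr (Or.inr (Or.inr (Or.inr (Or.inr (Or.inl ⟨by omega, h⟩)))))⟩
  · obtain ⟨e, h⟩ := b1 (fun i _ => h2 (u i)) hp hk x (h2 x) hx hax h0
    exact ⟨e, _, _, _, Or.inr (Or.inr (Or.inr (Or.inr (Or.inl ⟨by omega, h⟩))))⟩

theorem concl_dd (h2 : ∀ i, T.a i i = -2 * T.w i) {u : ℕ → Fin n} {k : ℕ} (hp : IsPath T u k)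
    (hk : 2 ≤ k) (x x' : Fin n) (hxx : x ≠ x') (hx : ∀ i ≤ k, u i ≠ x) (hx' : ∀ i ≤ k, u i ≠ x')
    (hax : Adj T (u 1) x) (hax' : Adj T (u (k - 1)) x') : Concl T := by
  obtain ⟨e, h⟩ := dd h2 hp hk x x' hxx hx hx' hax hax'
  exact ⟨_, _, _, Or.inr (Or.inr (Or.inr (Or.inr (Or.inr (Or.inr (Or.inl ⟨by omega, h⟩))))))⟩

theorem concl_e6 (h2 : ∀ i, T.a i i = -2 * T.w i) {u : ℕ → Fin n} (hp : IsPath T u 4)
    (x z : Fin n) (hx : ∀ i ≤ 4, u i ≠ x) (hz : ∀ i ≤ 4, u i ≠ z) (hxz : x ≠ z)
    (hax : Adj T (u 2) x) (haz : Adj T x z) : Concl T := by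
  obtain ⟨e, h⟩ := e6 h2 hp x z hx hz hxz hax haz
  exact ⟨_, _, _, Or.inr (Or.inr (Or.inr (Or.inr (Or.inr (Or.inr (Or.inr (Or.inl
    ⟨by omega, h⟩)))))))⟩

theorem concl_e7 (h2 : ∀ i, T.a i i = -2 * T.w i) {u : ℕ → Fin n} (hp : IsPath T u 6)
    (x : Fin n) (hx : ∀ i ≤ 6, u i ≠ x) (hax : Adj T (u 3) x) : Concl T := by
  obtain ⟨e, h⟩ := e7 h2 hp x hx hax
  exact ⟨_, _, _, Or.inr (Or.inr (Or.inr (Or.inr (Or.inr (Or.inr (Or.inr (Or.inr (Or.inl
    ⟨by omega, h⟩))))))))⟩

theorem concl_e8 (h2 : ∀ i, T.a i i = -2 * T.w i) {u : ℕ → Fin n} (hp : IsPath T u 7)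
    (x : Fin n) (hx : ∀ i ≤ 7, u i ≠ x) (hax : Adj T (u 5) x) : Concl T := by
  obtain ⟨e, h⟩ := e8 h2 hp x hx hax
  exact ⟨_, _, _, Or.inr (Or.inr (Or.inr (Or.inr (Or.inr (Or.inr (Or.inr (Or.inr (Or.inr
    (Or.inl ⟨by omega, h⟩)))))))))⟩

theorem concl_f (h2 : ∀ i, T.a i i = -2 * T.w i) {u : ℕ → Fin n} (hp : IsPath T u 4)
    (ha : Multi T (u 2) (u 3)) : Concl T := by
  rcases ha with ha | ha
  · obtain ⟨e, h⟩ := f1 h2 hp ha
    exact ⟨_, _, _, Or.inr (Or.inr (Or.inr (Or.inr (Or.inr (Or.inr (Or.inr (Or.inr (Or.inr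
      (Or.inr (Or.inl ⟨by omega, h⟩))))))))))⟩
  · obtain ⟨e, h⟩ := f2 h2 hp ha
    exact ⟨_, _, _, Or.inr (Or.inr (Or.inr (Or.inr (Or.inr (Or.inr (Or.inr (Or.inr (Or.inr
      (Or.inr (Or.inr (Or.inl ⟨by omega, h⟩)))))))))))⟩

theorem concl_g (h2 : ∀ i, T.a i i = -2 * T.w i) {u : ℕ → Fin n} (hp : IsPath T u 2)
    (ha : 3 ≤ N T (u 1) (u 2) ∨ 3 ≤ N T (u 2) (u 1)) : Concl T := by
  rcases ha with ha | ha
  · obtain ⟨e, h⟩ := g1 h2 hp ha
    exact ⟨_, _, _, Or.inr (Or.inr (Or.inr (Or.inr (Or.inr (Or.inr (Or.inr (Or.inr (Or.inr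
      (Or.inr (Or.inr (Or.inr (Or.inl ⟨by omega, h⟩))))))))))))⟩
  · obtain ⟨e, h⟩ := g2 h2 hp ha
    exact ⟨_, _, _, Or.inr (Or.inr (Or.inr (Or.inr (Or.inr (Or.inr (Or.inr (Or.inr (Or.inr
      (Or.inr (Or.inr (Or.inr (Or.inr ⟨by omega, h⟩))))))))))))⟩

/-- Two adjacent indices with both Cartan numbers at least two are everything. -/
theorem two_two (h2 : ∀ i, T.a i i = -2 * T.w i) {i j : Fin n} (hij : i ≠ j)
    (h3 : 2 ≤ N T i j) (h4 : 2 ≤ N T j i) : n = 2 := by
  have := (key (fun l => if l = 0 then i else j) 2 (fun _ _ => h2 _) (by omega)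
    (fun a ha b hb h => by
      interval_cases a <;> interval_cases b
      · rfl
      · exact absurd h hij
      · exact absurd h hij.symm
      · rfl) (fun _ => 1) (fun _ _ => one_pos)
    (fun l => if l = 0 then {1} else {0})
    (fun a ha b hb => by
      split_ifs at hb <;> rw [Finset.mem_singleton] at hb <;> omega)
    (fun a ha => by
      split_ifs with h0
      · rw [Finset.sum_singleton, if_neg (by omega)]
        linarith
      · rw [Finset.sum_singleton, if_pos rfl]
        linarith)).1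
  exact this.symm

/-- Exclusion of the finite types supported on a path. -/
theorem chain_neg (h2 : ∀ i, T.a i i = -2 * T.w i) {u : ℕ → Fin n} {k : ℕ}
    (hk : 1 ≤ k) (hsurj : ∀ x : Fin n, ∃ i < k + 1, u i = x)
    (hz : ∀ i j, i + 1 < j → j ≤ k → N T (u i) (u j) = 0)
    (y : ℕ → ℤ)
    (h0 : N T (u 0) (u 1) * y 1 ≤ 2 * y 0)
    (he : N T (u k) (u (k - 1)) * y (k - 1) ≤ 2 * y k)
    (hm : ∀ i, 0 < i → i < k →
      N T (u i) (u (i - 1)) * y (i - 1) + N T (u i) (u (i + 1)) * y (i + 1) ≤ 2 * y i) :
    N T (u 0) (u 1) * y 1 = 2 * y 0 ∧ N T (u k) (u (k - 1)) * y (k - 1) = 2 * y k ∧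
    (∀ i, 0 < i → i < k →
      N T (u i) (u (i - 1)) * y (i - 1) + N T (u i) (u (i + 1)) * y (i + 1) = 2 * y i) := by
  have h := neg_key h2 u (k + 1) hsurj y
    (fun i => if i = 0 then {1} else if i = k then {k - 1} else {i - 1, i + 1})
    (fun i hi j hj => by
      split_ifs at hj with h h'
      · rw [Finset.mem_singleton] at hj; omega
      · rw [Finset.mem_singleton] at hj; omega
      · rw [Finset.mem_insert, Finset.mem_singleton] at hj; omega)
    (fun i hi j hj hji hjs => by
      have h3 : i + 1 < j ∨ j + 1 < i := by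
        split_ifs at hjs with h h'
        · rw [Finset.mem_singleton] at hjs; omega
        · rw [Finset.mem_singleton] at hjs; omega
        · rw [Finset.mem_insert, Finset.mem_singleton] at hjs; omega
      rcases h3 with h3 | h3
      · exact hz i j h3 (by omega)
      · rw [N_eq_zero_comm]; exact hz j i h3 (by omega))
    (fun i hi => by
      split_ifs with h h'
      · subst h; rw [Finset.sum_singleton]; exact h0
      · subst h'; rw [Finset.sum_singleton]; exact he
      · rw [Finset.sum_pair (by omega)]; exact hm i (by omega) (by omega))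
  refine ⟨?_, ?_, ?_⟩
  · have := h 0 (by omega)
    simpa using this
  · have := h k (by omega)
    have hk0 : k ≠ 0 := by omega
    simpa [hk0] using this
  · intro i hi hik
    have := h i (by omega)
    have hi0 : i ≠ 0 := by omega
    have hik' : i ≠ k := by omega
    simp only [hi0, hik', if_false] at this
    rwa [Finset.sum_pair (by omega)] at this

/-- Exclusion of the finite types supported on a path with one more index attached, all edges
simple. -/
theorem tree_neg (h2 : ∀ i, T.a i i = -2 * T.w i) {u : ℕ → Fin n} {k : ℕ} (x : Fin n) (c : ℕ) (hc0 : 0 < c) (hck : c < k)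
    (hsurj : ∀ z : Fin n, z = x ∨ ∃ i < k + 1, u i = z)
    (hz : ∀ i j, i + 1 < j → j ≤ k → N T (u i) (u j) = 0)
    (hxz : ∀ i ≤ k, i ≠ c → N T (u i) x = 0)
    (hN : ∀ i < k, N T (u i) (u (i + 1)) = 1 ∧ N T (u (i + 1)) (u i) = 1)
    (hcx : N T (u c) x = 1) (hxc : N T x (u c) = 1)
    (y : ℕ → ℤ) (z : ℤ)
    (h0 : y 1 ≤ 2 * y 0)
    (he : y (k - 1) ≤ 2 * y k)
    (hm : ∀ i, 0 < i → i < k → i ≠ c → y (i - 1) + y (i + 1) ≤ 2 * y i)
    (hc : y (c - 1) + y (c + 1) + z ≤ 2 * y c)
    (hzc : y c ≤ 2 * z) :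
    y 1 = 2 * y 0 ∧ y (k - 1) = 2 * y k ∧ y c = 2 * z := by
  set v : ℕ → Fin n := fun i => if i ≤ k then u i else x with hv
  set Y : ℕ → ℤ := fun i => if i ≤ k then y i else z with hY
  have v1 : ∀ i ≤ k, v i = u i := fun i hi => if_pos hi
  have v2 : v (k + 1) = x := if_neg (by omega)
  have Y1 : ∀ i ≤ k, Y i = y i := fun i hi => if_pos hi
  have Y2 : Y (k + 1) = z := if_neg (by omega)
  have hN' : ∀ i, 0 < i → i ≤ k → N T (u i) (u (i - 1)) = 1 := by
    intro i hi hik
    have := (hN (i - 1) (by omega)).2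
    have e : i - 1 + 1 = i := by omega
    rwa [e] at this
  have h := neg_key h2 v (k + 2)
    (fun w => by
      rcases hsurj w with h | ⟨i, hi, h⟩
      · exact ⟨k + 1, by omega, by rw [v2, h]⟩
      · exact ⟨i, by omega, by rw [v1 i (by omega), h]⟩) Y
    (fun i => if i = k + 1 then {c} else if i = 0 then {1} else if i = k then {k - 1} else
      if i = c then {c - 1, c + 1, k + 1} else {i - 1, i + 1})
    (fun i hi j hj => by
      split_ifs at hj with a1 a2 a3 a4 <;>
      simp only [Finset.mem_insert, Finset.mem_singleton] at hj <;> omega)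
    (fun i hi j hj hji hjs => by
      by_cases hi' : i ≤ k <;> by_cases hj' : j ≤ k
      · rw [v1 i hi', v1 j hj']
        have h3 : i + 1 < j ∨ j + 1 < i := by
          split_ifs at hjs with a1 a2 a3 a4 <;>
          simp only [Finset.mem_insert, Finset.mem_singleton] at hjs <;> omega
        rcases h3 with h3 | h3
        · exact hz i j h3 (by omega)
        · rw [N_eq_zero_comm]; exact hz j i h3 (by omega)
      · have h3 : j = k + 1 := by omega
        rw [v1 i hi', h3, v2]
        refine hxz i hi' ?_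
        rintro rfl
        rw [if_neg (by omega), if_neg (by omega), if_neg (by omega), if_pos rfl] at hjs
        simp only [Finset.mem_insert, Finset.mem_singleton] at hjs
        omega
      · have h3 : i = k + 1 := by omega
        rw [v1 j hj', h3, v2, N_eq_zero_comm]
        refine hxz j hj' ?_
        rintro rfl
        rw [if_pos h3, Finset.mem_singleton] at hjs
        exact hjs rfl
      · omega)
    (fun i hi => by
      split_ifs with a1 a2 a3 a4
      · rw [a1, Finset.sum_singleton, Y2, v2, v1 c (by omega), Y1 c (by omega), hxc]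
        linarith
      · rw [a2, Finset.sum_singleton, v1 0 (by omega), v1 1 (by omega), Y1 0 (by omega),
          Y1 1 (by omega), (hN 0 (by omega)).1]
        linarith
      · rw [a3, Finset.sum_singleton, v1 k (by omega), v1 (k - 1) (by omega), Y1 k (by omega),
          Y1 (k - 1) (by omega), hN' k (by omega) (by omega)]
        linarith
      · rw [a4, Finset.sum_insert (by simp only [Finset.mem_insert, Finset.mem_singleton]; omega),
          Finset.sum_pair (by omega), v1 c (by omega), v1 (c - 1) (by omega),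
          v1 (c + 1) (by omega), v2, Y1 c (by omega), Y1 (c - 1) (by omega),
          Y1 (c + 1) (by omega), Y2, hN' c (by omega) (by omega), (hN c (by omega)).1, hcx]
        linarith
      · rw [Finset.sum_pair (by omega), v1 i (by omega), v1 (i - 1) (by omega),
          v1 (i + 1) (by omega), Y1 i (by omega), Y1 (i - 1) (by omega), Y1 (i + 1) (by omega),
          hN' i (by omega) (by omega), (hN i (by omega)).1]
        have := hm i (by omega) (by omega) a4
        linarith)
  refine ⟨?_, ?_, ?_⟩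
  · have := h 0 (by omega)
    rw [if_neg (by omega), if_pos rfl, Finset.sum_singleton, v1 0 (by omega), v1 1 (by omega),
      Y1 0 (by omega), Y1 1 (by omega), (hN 0 (by omega)).1] at this
    linarith
  · have := h k (by omega)
    rw [if_neg (by omega), if_neg (by omega), if_pos rfl, Finset.sum_singleton, v1 k (by omega),
      v1 (k - 1) (by omega), Y1 k (by omega), Y1 (k - 1) (by omega),
      hN' k (by omega) (by omega)] at this
    linarith
  · have := h (k + 1) (by omega)
    rw [if_pos rfl, Finset.sum_singleton, Y2, v2, v1 c (by omega), Y1 c (by omega), hxc] at this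
    linarith

/-- Existence of a path of maximal length. -/
theorem exists_max_path (T : _root_.Models.NumericalType n) :
    ∃ (k : ℕ) (u : ℕ → Fin n), IsPath T u k ∧ ∀ u' : ℕ → Fin n, ¬ IsPath T u' (k + 1) := by
  by_contra hcon
  push Not at hcon
  have h : ∀ k, ∃ u : ℕ → Fin n, IsPath T u k := by
    intro k
    induction k with
    | zero =>
      refine ⟨fun _ => ⟨0, T.pos⟩, ⟨fun i hi j hj _ => by omega, fun i hi => by omega⟩⟩
    | succ k ih =>
      obtain ⟨u, hu⟩ := ih
      exact hcon k u hu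
  obtain ⟨u, hu⟩ := h n
  have hinj : Function.Injective (fun i : Fin (n + 1) => u i.val) := by
    intro i j hij
    exact Fin.ext (hu.inj i.val (by omega) j.val (by omega) hij)
  have := Fintype.card_le_of_injective _ hinj
  simp at this

/-- Exclusion of types B and C. -/
theorem bc_neg (h2 : ∀ i, T.a i i = -2 * T.w i) {u : ℕ → Fin n} {k : ℕ} (hk : 2 ≤ k)
    (hsurj : ∀ x : Fin n, ∃ i < k + 1, u i = x)
    (hz : ∀ i j, i + 1 < j → j ≤ k → N T (u i) (u j) = 0)
    (hcases : (N T (u 0) (u 1) = 1 ∧ N T (u 1) (u 0) = 2) ∨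
      (N T (u 0) (u 1) = 2 ∧ N T (u 1) (u 0) = 1))
    (hsimple : ∀ j, 0 < j → j < k → N T (u j) (u (j + 1)) = 1 ∧ N T (u (j + 1)) (u j) = 1) :
    False := by
  have hS : ∀ j, 1 < j → j ≤ k → N T (u j) (u (j - 1)) = 1 := by
    intro j hj hjk
    have := (hsimple (j - 1) (by omega) (by omega)).2
    have e : j - 1 + 1 = j := by omega
    rwa [e] at this
  rcases hcases with ⟨c1, c2⟩ | ⟨c1, c2⟩
  · have y1 : ∀ i : ℕ, (i = 0) → (if i = 0 then (1 : ℤ) else 2) = 1 := fun i h => if_pos h
    have y2 : ∀ i : ℕ, ¬ (i = 0) → (if i = 0 then (1 : ℤ) else 2) = 2 := fun i h => if_neg h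
    have h := (chain_neg h2 (by omega) hsurj hz (fun i => if i = 0 then 1 else 2)
      (by rw [c1]; norm_num) (by
        beta_reduce
        rw [hS k (by omega) (by omega), y2 (k - 1) (by omega), y2 k (by omega)]; norm_num)
      (fun j hj hjk => by
        beta_reduce
        rw [y2 j (by omega), y2 (j + 1) (by omega), (hsimple j hj hjk).1]
        by_cases hj1 : j = 1
        · have e : j - 1 = 0 := by omega
          rw [e, y1 0 rfl, hj1, c2]; norm_num
        · rw [hS j (by omega) (by omega), y2 (j - 1) (by omega)]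
          norm_num)).2.1
    beta_reduce at h
    rw [hS k (by omega) (by omega), y2 (k - 1) (by omega), y2 k (by omega)] at h
    norm_num at h
  · have h := (chain_neg h2 (by omega) hsurj hz (fun i => 1)
      (by rw [c1]) (by
        rw [hS k (by omega) (by omega)]; norm_num)
      (fun j hj hjk => by
        rw [(hsimple j hj hjk).1]
        by_cases hj1 : j = 1
        · have e : j - 1 = 0 := by omega
          rw [e, hj1, c2]; norm_num
        · rw [hS j (by omega) (by omega)]
          norm_num)).2.1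
    rw [hS k (by omega) (by omega)] at h
    norm_num at h

/-- Exclusion of type F4. -/
theorem f4_neg (h2 : ∀ i, T.a i i = -2 * T.w i) {u : ℕ → Fin n}
    (hsurj : ∀ x : Fin n, ∃ i < 3 + 1, u i = x)
    (hz : ∀ i j, i + 1 < j → j ≤ 3 → N T (u i) (u j) = 0)
    (hcases : (N T (u 1) (u 2) = 1 ∧ N T (u 2) (u 1) = 2) ∨
      (N T (u 1) (u 2) = 2 ∧ N T (u 2) (u 1) = 1))
    (n01 : N T (u 0) (u 1) = 1) (n10 : N T (u 1) (u 0) = 1)
    (n23 : N T (u 2) (u 3) = 1) (n32 : N T (u 3) (u 2) = 1) :
    False := by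
  rcases hcases with ⟨c1, c2⟩ | ⟨c1, c2⟩
  · have h := (chain_neg h2 (by omega) hsurj hz (lv [1, 2, 3, 2])
      (by show N T (u 0) (u 1) * 2 ≤ 2 * 1; rw [n01]; norm_num)
      (by show N T (u 3) (u 2) * 3 ≤ 2 * 2; rw [n32]; norm_num)
      (fun j hj hjk => by
        have hj' : j = 1 ∨ j = 2 := by omega
        rcases hj' with rfl | rfl
        · show N T (u 1) (u 0) * 1 + N T (u 1) (u 2) * 3 ≤ 2 * 2
          rw [n10, c1]; norm_num
        · show N T (u 2) (u 1) * 2 + N T (u 2) (u 3) * 2 ≤ 2 * 3
          rw [n23, c2]; norm_num)).2.1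
    have h' : N T (u 3) (u 2) * 3 = 2 * 2 := h
    rw [n32] at h'
    norm_num at h'
  · have h := (chain_neg h2 (by omega) hsurj hz (lv [2, 3, 2, 1])
      (by show N T (u 0) (u 1) * 3 ≤ 2 * 2; rw [n01]; norm_num)
      (by show N T (u 3) (u 2) * 2 ≤ 2 * 1; rw [n32]; norm_num)
      (fun j hj hjk => by
        have hj' : j = 1 ∨ j = 2 := by omega
        rcases hj' with rfl | rfl
        · show N T (u 1) (u 0) * 2 + N T (u 1) (u 2) * 2 ≤ 2 * 3
          rw [n10, c1]; norm_num
        · show N T (u 2) (u 1) * 3 + N T (u 2) (u 3) * 1 ≤ 2 * 2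
          rw [n23, c2]; norm_num)).1
    have h' : N T (u 0) (u 1) * 3 = 2 * 2 := h
    rw [n01] at h'
    norm_num at h'

/-- Exclusion of type A. -/
theorem a_neg (h2 : ∀ i, T.a i i = -2 * T.w i) {u : ℕ → Fin n} {k : ℕ} (hk : 1 ≤ k)
    (hsurj : ∀ x : Fin n, ∃ i < k + 1, u i = x)
    (hz : ∀ i j, i + 1 < j → j ≤ k → N T (u i) (u j) = 0)
    (hsimple : ∀ j, j < k → N T (u j) (u (j + 1)) = 1 ∧ N T (u (j + 1)) (u j) = 1) :
    False := by
  have hS : ∀ j, 0 < j → j ≤ k → N T (u j) (u (j - 1)) = 1 := by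
    intro j hj hjk
    have := (hsimple (j - 1) (by omega)).2
    have e : j - 1 + 1 = j := by omega
    rwa [e] at this
  have h := (chain_neg h2 (by omega) hsurj hz (fun i => 1)
      (by rw [(hsimple 0 (by omega)).1]; norm_num) (by
        rw [hS k (by omega) (by omega)]; norm_num)
      (fun j hj hjk => by
        rw [(hsimple j hjk).1, hS j (by omega) (by omega)]
        norm_num)).2.1
  rw [hS k (by omega) (by omega)] at h
  norm_num at h

/-- Paths on which everything lies. -/
theorem main_path (h2 : ∀ i, T.a i i = -2 * T.w i) (hn : 3 ≤ n) {u : ℕ → Fin n} {k : ℕ}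
    (hp : IsPath T u k) (hkn : k + 1 = n) (hsurj : ∀ x : Fin n, ∃ i < k + 1, u i = x)
    (hz : ∀ i j, i + 1 < j → j ≤ k → N T (u i) (u j) = 0) : Concl T := by
  by_cases hM : ∃ i < k, Multi T (u i) (u (i + 1))
  · obtain ⟨i, hi, hmi⟩ := hM
    by_cases hM2 : ∃ j < k, i ≠ j ∧ Multi T (u j) (u (j + 1))
    · obtain ⟨j, hj, hij, hmj⟩ := hM2
      -- two multiple edges
      have key : ∀ i j, i < j → j < k → Multi T (u i) (u (i + 1)) →
          Multi T (u j) (u (j + 1)) → Concl T := by
        intro i j hij hj hmi hmj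
        refine concl_c h2 (hp.sub i (j + 1 - i) (by omega)) (by omega) hmi ?_
        beta_reduce
        have e1 : i + (j + 1 - i - 1) = j := by omega
        have e2 : i + (j + 1 - i) = j + 1 := by omega
        rw [e1, e2]
        exact hmj
      rcases lt_or_gt_of_ne hij with h3 | h3
      · exact key i j h3 hj hmi hmj
      · exact key j i h3 hi hmj hmi
    · push Not at hM2
      have hsimple : ∀ j < k, i ≠ j → N T (u j) (u (j + 1)) = 1 ∧ N T (u (j + 1)) (u j) = 1 :=
        fun j hj hij => ⟨N_one_of_not_multi (hp.adj j hj) (hM2 j hj hij),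
          N_one_of_not_multi (hp.adj j hj).symm (fun h => hM2 j hj hij h.symm)⟩
      have hne := hp.ne (i := i) (j := i + 1) (by omega) (by omega) (by omega)
      -- a Cartan number at least three
      by_cases h3 : 3 ≤ N T (u i) (u (i + 1)) ∨ 3 ≤ N T (u (i + 1)) (u i)
      · by_cases hi1 : 1 ≤ i
        · refine concl_g h2 (hp.sub (i - 1) 2 (by omega)) ?_
          beta_reduce
          have e1 : i - 1 + 1 = i := by omega
          have e2 : i - 1 + 2 = i + 1 := by omega
          rw [e1, e2]
          exact h3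
        · refine concl_g h2 (hp.sub i 2 (by omega)).reverse ?_
          beta_reduce
          have e1 : i + (2 - 1) = i + 1 := by omega
          have e2 : i + (2 - 2) = i := by omega
          rw [e1, e2]
          exact h3.symm
      · push Not at h3
        by_cases h22 : 2 ≤ N T (u i) (u (i + 1)) ∧ 2 ≤ N T (u (i + 1)) (u i)
        · have := two_two h2 hne h22.1 h22.2
          omega
        · have hadj := hp.adj i hi
          have g1 := hadj.one_le
          have g2 := hadj.symm.one_le
          -- so the numbers are 1, 2 or 2, 1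
          by_cases hF1 : 2 ≤ i ∧ i + 2 ≤ k
          · refine concl_f h2 (hp.sub (i - 2) 4 (by omega)) ?_
            beta_reduce
            have e1 : i - 2 + 2 = i := by omega
            have e2 : i - 2 + 3 = i + 1 := by omega
            rw [e1, e2]
            exact hmi
          by_cases hF2 : 1 ≤ i ∧ i + 3 ≤ k
          · refine concl_f h2 (hp.sub (i - 1) 4 (by omega)).reverse ?_
            beta_reduce
            have e1 : i - 1 + (4 - 2) = i + 1 := by omega
            have e2 : i - 1 + (4 - 3) = i := by omega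
            rw [e1, e2]
            exact hmi.symm
          exfalso
          have hcases : (N T (u i) (u (i + 1)) = 1 ∧ N T (u (i + 1)) (u i) = 2) ∨
              (N T (u i) (u (i + 1)) = 2 ∧ N T (u (i + 1)) (u i) = 1) := by
            rcases hmi with h5 | h5 <;> omega
          by_cases hi0 : i = 0
          · subst hi0
            exact bc_neg h2 (by omega) hsurj hz hcases (fun j hj hjk => hsimple j hjk (by omega))
          · by_cases hik : i + 1 = k
            · refine bc_neg h2 (u := fun i => u (k - i)) (k := k) (by omega) ?_ ?_ ?_ ?_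
              · intro x
                obtain ⟨l, hl, hx⟩ := hsurj x
                refine ⟨k - l, by omega, ?_⟩
                have e : k - (k - l) = l := by omega
                rw [e, hx]
              · intro a b hab hb
                beta_reduce
                rw [N_eq_zero_comm]
                exact hz _ _ (by omega) (by omega)
              · beta_reduce
                have e1 : k - 0 = i + 1 := by omega
                have e2 : k - 1 = i := by omega
                rw [e1, e2]
                tauto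
              · intro j hj hjk
                beta_reduce
                have e1 : k - j = k - (j + 1) + 1 := by omega
                rw [e1]
                exact (hsimple (k - (j + 1)) (by omega) (by omega)).symm
            · have hi1 : i = 1 := by omega
              have hk3 : k = 3 := by omega
              subst hi1
              subst hk3
              exact f4_neg h2 hsurj hz hcases (hsimple 0 (by omega) (by omega)).1
                (hsimple 0 (by omega) (by omega)).2 (hsimple 2 (by omega) (by omega)).1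
                (hsimple 2 (by omega) (by omega)).2
  · push Not at hM
    exact (a_neg h2 (by omega) hsurj hz (fun j hj => ⟨N_one_of_not_multi (hp.adj j hj) (hM j hj),
      N_one_of_not_multi (hp.adj j hj).symm (fun h => hM j hj h.symm)⟩)).elim

/-- Paths with one more index attached (the shorter arm has length `c`). -/
theorem main_tree (h2 : ∀ i, T.a i i = -2 * T.w i) {u : ℕ → Fin n} {k : ℕ}
    (hp : IsPath T u k) (x : Fin n) (hx : ∀ i ≤ k, u i ≠ x) (c : ℕ) (hc0 : 0 < c) (hck : c + c ≤ k)
    (hax : Adj T (u c) x)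
    (hsurj : ∀ z : Fin n, z = x ∨ ∃ i < k + 1, u i = z)
    (hz : ∀ i j, i + 1 < j → j ≤ k → N T (u i) (u j) = 0)
    (hxz : ∀ i ≤ k, i ≠ c → N T (u i) x = 0) : Concl T := by
  by_cases hM : ∃ i < k, Multi T (u i) (u (i + 1))
  · obtain ⟨i, hi, hmi⟩ := hM
    by_cases hic : i < c
    · refine (concl_b h2 (hp.sub i (c + 1 - i) (by omega)) (by omega) x
        (fun j hj => hx _ (by omega)) ?_ hmi).2
      beta_reduce
      have e1 : i + (c + 1 - i - 1) = c := by omega
      rw [e1]
      exact hax
    · refine (concl_b h2 (hp.sub (c - 1) (i + 1 - (c - 1)) (by omega)).reverse (by omega) x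
        (fun j hj => hx _ (by omega)) ?_ ?_).2
      · beta_reduce
        have e1 : c - 1 + (i + 1 - (c - 1) - (i + 1 - (c - 1) - 1)) = c := by omega
        rw [e1]
        exact hax
      · beta_reduce
        have e1 : c - 1 + (i + 1 - (c - 1) - 0) = i + 1 := by omega
        have e2 : c - 1 + (i + 1 - (c - 1) - 1) = i := by omega
        rw [e1, e2]
        exact hmi.symm
  push Not at hM
  have hN : ∀ i < k, N T (u i) (u (i + 1)) = 1 ∧ N T (u (i + 1)) (u i) = 1 :=
    fun j hj => ⟨N_one_of_not_multi (hp.adj j hj) (hM j hj),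
      N_one_of_not_multi (hp.adj j hj).symm (fun h => hM j hj h.symm)⟩
  by_cases hMx : Multi T (u c) x
  · -- the path x, u c, u (c + 1) with u (c - 1) attached
    have hp2 : IsPath T (fun i => if i ≤ 1 then u (c + 1 - i) else x) 2 := by
      have := (hp.sub c 1 (by omega)).reverse.snoc (x := x) (fun i hi => hx _ (by omega)) (by
        beta_reduce
        simpa using hax)
      refine ⟨fun a ha b hb h => ?_, fun a ha => ?_⟩
      · refine this.inj a ha b hb ?_
        beta_reduce at h ⊢
        have e1 : ∀ a ≤ 1, c + (1 - a) = c + 1 - a := by intro a ha; omega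
        by_cases ha1 : a ≤ 1 <;> by_cases hb1 : b ≤ 1
        · rw [if_pos ha1, if_pos hb1] at h ⊢
          rw [e1 a ha1, e1 b hb1]; exact h
        · rw [if_pos ha1, if_neg hb1] at h ⊢
          rw [e1 a ha1]; exact h
        · rw [if_neg ha1, if_pos hb1] at h ⊢
          rw [e1 b hb1]; exact h
        · rw [if_neg ha1, if_neg hb1]
      · have h' := this.adj a ha
        beta_reduce at h' ⊢
        have e1 : ∀ a ≤ 1, c + (1 - a) = c + 1 - a := by intro a ha; omega
        by_cases ha1 : a ≤ 1 <;> by_cases hb1 : a + 1 ≤ 1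
        · rw [if_pos ha1, if_pos hb1] at h' ⊢
          rw [e1 a ha1, e1 (a + 1) hb1] at h'; exact h'
        · rw [if_pos ha1, if_neg hb1] at h' ⊢
          rw [e1 a ha1] at h'; exact h'
        · omega
        · omega
    refine (concl_b h2 hp2.reverse le_rfl (u (c - 1)) (fun j hj => ?_) ?_ ?_).2
    · have hj' : j = 0 ∨ j = 1 ∨ j = 2 := by omega
      rcases hj' with rfl | rfl | rfl
      · exact (hx (c - 1) (by omega)).symm
      · exact hp.ne (i := c + 1 - 1) (j := c - 1) (by omega) (by omega) (by omega)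
      · exact hp.ne (i := c + 1 - 0) (j := c - 1) (by omega) (by omega) (by omega)
    · exact (hp.adj' (i := c - 1) (j := c + 1 - 1) (by omega) (by omega)).symm
    · exact hMx.symm
  have hcx : N T (u c) x = 1 := N_one_of_not_multi hax hMx
  have hxc : N T x (u c) = 1 := N_one_of_not_multi hax.symm (fun h => hMx h.symm)
  by_cases hc3 : 3 ≤ c
  · refine concl_e7 h2 (hp.sub (c - 3) 6 (by omega)) x (fun j hj => hx _ (by omega)) ?_
    beta_reduce
    have e1 : c - 3 + 3 = c := by omega
    rw [e1]
    exact hax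
  by_cases hc1 : c = 1
  · -- type D
    exfalso
    subst hc1
    have y1 : ∀ i : ℕ, (i = 0) → (if i = 0 then (1 : ℤ) else 2) = 1 := fun i h => if_pos h
    have y2 : ∀ i : ℕ, ¬ (i = 0) → (if i = 0 then (1 : ℤ) else 2) = 2 := fun i h => if_neg h
    have h := (tree_neg h2 x 1 (by omega) (by omega) hsurj hz hxz hN hcx hxc
      (fun i => if i = 0 then 1 else 2) 1 (by norm_num)
      (by beta_reduce; rw [y2 (k - 1) (by omega), y2 k (by omega)]; norm_num)
      (fun i hi hik hi1 => by
        beta_reduce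
        rw [y2 (i - 1) (by omega), y2 (i + 1) (by omega), y2 i (by omega)]; norm_num)
      (by norm_num) (by norm_num)).2.1
    beta_reduce at h
    rw [y2 (k - 1) (by omega), y2 k (by omega)] at h
    norm_num at h
  have hc2 : c = 2 := by omega
  subst hc2
  by_cases hk7 : 7 ≤ k
  · refine concl_e8 h2 (hp.sub 0 7 (by omega)).reverse x (fun j hj => hx _ (by omega)) ?_
    beta_reduce
    exact hax
  exfalso
  have hk : k = 4 ∨ k = 5 ∨ k = 6 := by omega
  rcases hk with rfl | rfl | rfl
  · have h := (tree_neg h2 x 2 (by omega) (by omega) hsurj hz hxz hN hcx hxc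
      (lv [1, 2, 3, 2, 1]) 2 (by decide) (by decide) (fun i hi hik hi2 => by
        have : ∀ i < 4, 0 < i → i ≠ 2 →
          lv [1, 2, 3, 2, 1] (i - 1) + lv [1, 2, 3, 2, 1] (i + 1) ≤
            2 * lv [1, 2, 3, 2, 1] i := by decide
        exact this i hik hi hi2) (by decide) (by decide)).2.2
    revert h; decide
  · have h := (tree_neg h2 x 2 (by omega) (by omega) hsurj hz hxz hN hcx hxc
      (lv [2, 3, 4, 3, 2, 1]) 2 (by decide) (by decide) (fun i hi hik hi2 => by
        have : ∀ i < 5, 0 < i → i ≠ 2 →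
          lv [2, 3, 4, 3, 2, 1] (i - 1) + lv [2, 3, 4, 3, 2, 1] (i + 1) ≤
            2 * lv [2, 3, 4, 3, 2, 1] i := by decide
        exact this i hik hi hi2) (by decide) (by decide)).1
    revert h; decide
  · have h := (tree_neg h2 x 2 (by omega) (by omega) hsurj hz hxz hN hcx hxc
      (lv [2, 4, 6, 5, 4, 3, 2]) 3 (by decide) (by decide) (fun i hi hik hi2 => by
        have : ∀ i < 6, 0 < i → i ≠ 2 →
          lv [2, 4, 6, 5, 4, 3, 2] (i - 1) + lv [2, 4, 6, 5, 4, 3, 2] (i + 1) ≤
            2 * lv [2, 4, 6, 5, 4, 3, 2] i := by decide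
        exact this i hik hi hi2) (by decide) (by decide)).2.1
    revert h; decide

/-- The classification. -/
theorem main (h2 : ∀ i, T.a i i = -2 * T.w i) (hn : 3 ≤ n) : Concl T := by
  obtain ⟨k, u, hp, hmax⟩ := exists_max_path T
  -- chords give cycles
  by_cases hchord : ∃ i j, i + 1 < j ∧ j ≤ k ∧ N T (u i) (u j) ≠ 0
  · obtain ⟨i, j, hij, hj, hne⟩ := hchord
    refine concl_cyc h2 (hp.sub i (j - i) (by omega)) (by omega) ?_
    beta_reduce
    have e1 : i + (j - i) = j := by omega
    rw [e1, Nat.add_zero]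
    exact Adj.symm ⟨hp.ne (by omega) (by omega) (by omega), hne⟩
  push Not at hchord
  by_cases hall : ∀ x : Fin n, ∃ i < k + 1, u i = x
  · have hkn : k + 1 = n := by
      have hinj : Function.Injective (fun i : Fin (k + 1) => u i.val) := by
        intro i j hij
        exact Fin.ext (hp.inj i.val (by omega) j.val (by omega) hij)
      have hsurj : Function.Surjective (fun i : Fin (k + 1) => u i.val) := by
        intro x
        obtain ⟨i, hi, hx⟩ := hall x
        exact ⟨⟨i, hi⟩, hx⟩
      have := Fintype.card_of_bijective ⟨hinj, hsurj⟩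
      simpa using this
    exact main_path h2 hn hp hkn hall hchord
  -- an index off the path, adjacent to the path
  have hoff : ∃ x : Fin n, (∀ i ≤ k, u i ≠ x) ∧ ∃ c ≤ k, Adj T (u c) x := by
    classical
    push Not at hall
    obtain ⟨x0, hx0⟩ := hall
    obtain ⟨i, hi, j, hj, hij⟩ := T.connected ((range (k + 1)).image u)
      ⟨u 0, Finset.mem_image_of_mem _ (Finset.mem_range.2 (by omega))⟩ (by
        intro h'
        have h1 : x0 ∈ (range (k + 1)).image u := by rw [h']; exact Finset.mem_univ _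
        rw [Finset.mem_image] at h1
        obtain ⟨i, hi, hix⟩ := h1
        exact hx0 i (Finset.mem_range.1 hi) hix)
    rw [Finset.mem_image] at hi
    obtain ⟨c, hc, rfl⟩ := hi
    rw [Finset.mem_range] at hc
    have hj' : ∀ i ≤ k, u i ≠ j := fun i hi h =>
      hj (h ▸ Finset.mem_image_of_mem _ (Finset.mem_range.2 (by omega)))
    exact ⟨j, hj', c, by omega, hj' c (by omega), fun h => hij ((N_eq_zero_iff T _ _).1 h)⟩
  -- the endpoints have no neighbours off the path
  have hend : ∀ x : Fin n, (∀ i ≤ k, u i ≠ x) → ¬ Adj T (u k) x := fun x hx h =>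
    hmax _ (hp.snoc hx h)
  have hend0 : ∀ x : Fin n, (∀ i ≤ k, u i ≠ x) → ¬ Adj T (u 0) x := fun x hx h =>
    hmax _ (hp.reverse.snoc (fun i hi => hx _ (by omega)) (by
      beta_reduce
      rw [Nat.sub_self]
      exact h))
  -- an index off the path with two neighbours on the path
  by_cases htwo : ∃ x : Fin n, (∀ i ≤ k, u i ≠ x) ∧ ∃ a b, a < b ∧ b ≤ k ∧ Adj T (u a) x ∧
      Adj T (u b) x
  · obtain ⟨x, hx, a, b, hab, hb, hax, hbx⟩ := htwo
    refine concl_cyc h2 ((hp.sub a (b - a) (by omega)).snoc (x := x)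
      (fun i hi => hx _ (by omega)) ?_) (by omega) ?_
    · beta_reduce
      have e1 : a + (b - a) = b := by omega
      rw [e1]
      exact hbx
    · beta_reduce
      rw [if_neg (by omega), if_pos (by omega)]
      exact hax.symm
  push Not at htwo
  -- two indices off the path with neighbours on the path
  by_cases hxx : ∃ x x' : Fin n, x ≠ x' ∧ (∀ i ≤ k, u i ≠ x) ∧ (∀ i ≤ k, u i ≠ x') ∧
      ∃ a b, a ≤ b ∧ b ≤ k ∧ Adj T (u a) x ∧ Adj T (u b) x'
  · obtain ⟨x, x', hne, hx, hx', a, b, hab, hb, hax, hbx⟩ := hxx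
    have ha0 : a ≠ 0 := fun h => hend0 x hx (h ▸ hax)
    have hbk : b ≠ k := fun h => hend x' hx' (h ▸ hbx)
    refine concl_dd h2 (hp.sub (a - 1) (b + 1 - (a - 1)) (by omega)) (by omega) x x' hne
      (fun i hi => hx _ (by omega)) (fun i hi => hx' _ (by omega)) ?_ ?_
    · beta_reduce
      have e1 : a - 1 + 1 = a := by omega
      rw [e1]
      exact hax
    · beta_reduce
      have e1 : a - 1 + (b + 1 - (a - 1) - 1) = b := by omega
      rw [e1]
      exact hbx
  push Not at hxx
  obtain ⟨x, hx, c, hc, hcx⟩ := hoff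
  have hc0 : c ≠ 0 := fun h => hend0 x hx (h ▸ hcx)
  have hck : c ≠ k := fun h => hend x hx (h ▸ hcx)
  -- a further index adjacent to x
  by_cases hzz : ∃ z : Fin n, z ≠ x ∧ (∀ i ≤ k, u i ≠ z) ∧ Adj T x z
  · obtain ⟨z, hzx, hz, hxz⟩ := hzz
    -- the arms have length at least two
    have hk2 : c + 2 ≤ k := by
      by_contra hlt
      have hp1 := ((hp.sub 0 c (by omega)).snoc (x := x) (fun i hi => hx _ (by omega)) (by
        beta_reduce
        rw [Nat.zero_add]
        exact hcx))
      have hp2 := hp1.snoc (x := z) (fun i hi => by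
        beta_reduce
        split_ifs
        · exact hz _ (by omega)
        · exact hzx.symm) (by
        beta_reduce
        rw [if_neg (by omega)]
        exact hxz)
      have hck' : c + 1 = k := by omega
      have : c + 1 + 1 = k + 1 := by omega
      rw [this] at hp2
      exact hmax _ hp2
    have hc2 : 2 ≤ c := by
      by_contra hlt
      have hp1 := ((hp.sub c (k - c) (by omega)).reverse.snoc (x := x)
        (fun i hi => hx _ (by omega)) (by
        beta_reduce
        rw [Nat.sub_self, Nat.add_zero]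
        exact hcx))
      have hp2 := hp1.snoc (x := z) (fun i hi => by
        beta_reduce
        split_ifs
        · exact hz _ (by omega)
        · exact hzx.symm) (by
        beta_reduce
        rw [if_neg (by omega)]
        exact hxz)
      have : k - c + 1 + 1 = k + 1 := by omega
      rw [this] at hp2
      exact hmax _ hp2
    refine concl_e6 h2 (hp.sub (c - 2) 4 (by omega)) x z (fun i hi => hx _ (by omega))
      (fun i hi => hz _ (by omega)) hzx.symm ?_ hxz
    beta_reduce
    have e1 : c - 2 + 2 = c := by omega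
    rw [e1]
    exact hcx
  push Not at hzz
  -- everything is the path and x
  have hsurj : ∀ z : Fin n, z = x ∨ ∃ i < k + 1, u i = z := by
    classical
    by_contra hcon
    push Not at hcon
    obtain ⟨z0, hz0, hz0'⟩ := hcon
    obtain ⟨i, hi, j, hj, hij⟩ := T.connected (insert x ((range (k + 1)).image u))
      ⟨x, Finset.mem_insert_self _ _⟩ (by
        intro h'
        have h1 : z0 ∈ insert x ((range (k + 1)).image u) := by rw [h']; exact Finset.mem_univ _
        rw [Finset.mem_insert, Finset.mem_image] at h1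
        rcases h1 with h1 | ⟨i, hi, hix⟩
        · exact hz0 h1
        · exact hz0' i (Finset.mem_range.1 hi) hix)
    rw [Finset.mem_insert, Finset.mem_image] at hi hj
    push Not at hj
    have hj' : ∀ i ≤ k, u i ≠ j := fun i hi => hj.2 i (Finset.mem_range.2 (by omega))
    rcases hi with rfl | ⟨a, ha, rfl⟩
    · exact hzz j hj.1 hj' ⟨hj.1.symm, fun h => hij ((N_eq_zero_iff T _ _).1 h)⟩
    · rw [Finset.mem_range] at ha
      have hadj : Adj T (u a) j := ⟨hj' a (by omega), fun h => hij ((N_eq_zero_iff T _ _).1 h)⟩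
      rcases le_total c a with hca | hca
      · exact hxx x j hj.1.symm hx hj' c a hca (by omega) hcx hadj
      · exact hxx j x hj.1 hj' hx a c hca hc hadj hcx
  have hxz : ∀ i ≤ k, i ≠ c → N T (u i) x = 0 := by
    intro i hi hic
    by_contra hne
    have hadj : Adj T (u i) x := ⟨hx i hi, hne⟩
    rcases lt_or_gt_of_ne hic with h3 | h3
    · exact htwo x hx i c h3 hc hadj hcx
    · exact htwo x hx c i h3 hi hcx hadj
  rcases le_total (c + c) k with h3 | h3
  · exact main_tree h2 hp x hx c (by omega) h3 hcx hsurj hchord hxz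
  · refine main_tree h2 hp.reverse x (fun i hi => hx _ (by omega)) (k - c) (by omega) (by omega)
      ?_ ?_ ?_ ?_
    · beta_reduce
      have e1 : k - (k - c) = c := by omega
      rw [e1]
      exact hcx
    · intro z
      rcases hsurj z with h4 | ⟨i, hi, h4⟩
      · exact Or.inl h4
      · refine Or.inr ⟨k - i, by omega, ?_⟩
        have e1 : k - (k - i) = i := by omega
        rw [e1]
        exact h4
    · intro i j hij hj
      beta_reduce
      rw [N_eq_zero_comm]
      exact hchord _ _ (by omega) (by omega)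
    · intro i hi hic
      exact hxz _ (by omega) (by omega)

end K379.Affine
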