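import Groth.Agent.Models.K379.AffFork

/-!
# Sporadic affine configurations and excluded (finite) configurations
-/

set_option autoImplicit false

open Finset

namespace K379.Affine

open Groth.Agent.Models.NumBasic

variable {n : ℕ} (T : _root_.Models.NumericalType n)

/-- Values of a list. -/
def lv (l : List ℤ) (i : ℕ) : ℤ := l.getD i 1

def DE6 (u : ℕ → Fin n) (m w : ℤ) : Prop :=
  Data T u (fun i => lv [1, 2, 3, 1, 2, 1, 2] i * m) (fun _ => w)
    (fun i j => if (i = 0 ∧ j = 1) ∨ (i = 1 ∧ j = 2) ∨ (i = 3 ∧ j = 4) ∨ (i = 2 ∧ j = 4) ∨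
      (i = 5 ∧ j = 6) ∨ (i = 2 ∧ j = 6) then w else 0)

def DE7 (u : ℕ → Fin n) (m w : ℤ) : Prop :=
  Data T u (fun i => lv [1, 2, 3, 4, 3, 2, 1, 2] i * m) (fun _ => w)
    (fun i j => if (j = i + 1 ∧ j ≤ 6) ∨ (i = 3 ∧ j = 7) then w else 0)

def DE8 (u : ℕ → Fin n) (m w : ℤ) : Prop :=
  Data T u (fun i => lv [1, 2, 3, 4, 5, 6, 4, 2, 3] i * m) (fun _ => w)
    (fun i j => if (j = i + 1 ∧ j ≤ 7) ∨ (i = 5 ∧ j = 8) then w else 0)

def DF1 (u : ℕ → Fin n) (m w : ℤ) : Prop :=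
  Data T u (fun i => lv [1, 2, 3, 2, 1] i * m) (fun i => lv [1, 1, 1, 2, 2] i * w)
    (fun i j => if j = i + 1 then lv [1, 1, 2, 2] i * w else 0)

def DF2 (u : ℕ → Fin n) (m w : ℤ) : Prop :=
  Data T u (fun i => lv [1, 2, 3, 4, 2] i * m) (fun i => lv [2, 2, 2, 1, 1] i * w)
    (fun i j => if j = i + 1 then lv [2, 2, 2, 1] i * w else 0)

def DG1 (u : ℕ → Fin n) (m w : ℤ) : Prop :=
  Data T u (fun i => lv [1, 2, 1] i * m) (fun i => lv [1, 1, 3] i * w)
    (fun i j => if j = i + 1 then lv [1, 3] i * w else 0)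

def DG2 (u : ℕ → Fin n) (m w : ℤ) : Prop :=
  Data T u (fun i => lv [1, 2, 3] i * m) (fun i => lv [3, 3, 1] i * w)
    (fun i j => if j = i + 1 then lv [3, 3] i * w else 0)

variable {T}

/-- Values of a list of finite sets. -/
def ls (l : List (Finset ℕ)) (i : ℕ) : Finset ℕ := l.getD i ∅

theorem e7 (h2 : ∀ i, T.a i i = -2 * T.w i) {u : ℕ → Fin n} (hp : IsPath T u 6)
    (x : Fin n) (hx : ∀ i ≤ 6, u i ≠ x) (hax : Adj T (u 3) x) :
    8 = n ∧ DE7 T (ext u 6 x) (T.m (u 0)) (T.w (u 0)) := by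
  have hinj : ∀ i < 8, ∀ j < 8, ext u 6 x i = ext u 6 x j → i = j := by
    intro i hi j hj h
    by_cases hi' : i ≤ 6 <;> by_cases hj' : j ≤ 6
    · rw [ext_le hi', ext_le hj'] at h
      exact hp.inj i hi' j hj' h
    · have : j = 7 := by omega
      rw [ext_le hi', this, ext_last] at h
      exact absurd h (hx i hi')
    · have : i = 7 := by omega
      rw [ext_le hj', this, ext_last] at h
      exact absurd h.symm (hx j hj')
    · omega
  have hadj : ∀ i j, (j = i + 1 ∧ j ≤ 6) ∨ (i = 3 ∧ j = 7) →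
      1 ≤ N T (ext u 6 x i) (ext u 6 x j) ∧ 1 ≤ N T (ext u 6 x j) (ext u 6 x i) := by
    intro i j h
    rcases h with ⟨h, h'⟩ | ⟨h, h'⟩
    · rw [ext_le (by omega), ext_le h']
      exact ⟨hp.one_le (by omega) (by omega), hp.one_le' (by omega) (by omega)⟩
    · rw [h, h', ext_last, ext_le (by omega)]
      exact ⟨hax.one_le, hax.symm.one_le⟩
  have hsN : ∀ i < 8, ∀ j ∈ ls [{1}, {0, 2}, {1, 3}, {2, 4, 7}, {3, 5}, {4, 6}, {5}, {3}] i,
      ((j = i + 1 ∧ j ≤ 6) ∨ (i = 3 ∧ j = 7)) ∨ ((i = j + 1 ∧ i ≤ 6) ∨ (j = 3 ∧ i = 7)) := by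
    decide
  obtain ⟨e1, e2, e3, e5⟩ := simple_key h2 (ext u 6 x) 8 (by omega) hinj
    (lv [1, 2, 3, 4, 3, 2, 1, 2]) (by decide)
    (ls [{1}, {0, 2}, {1, 3}, {2, 4, 7}, {3, 5}, {4, 6}, {5}, {3}])
    (by decide)
    (fun i hi j hj => by
      rcases hsN i hi j hj with h3 | h3
      · exact (hadj i j h3).1
      · exact (hadj j i h3).2)
    (by decide)
  have h0 : ext u 6 x 0 = u 0 := ext_le (by omega)
  refine ⟨e1, ⟨by intro i hi j hj; exact hinj i (by omega) j (by omega), ?_, ?_, ?_⟩⟩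
  · intro i hi
    have := e5 i (by omega) 0 (by omega)
    rw [h0] at this
    have h00 : lv [1, 2, 3, 4, 3, 2, 1, 2] 0 = 1 := rfl
    rw [h00, mul_one] at this
    rw [this, mul_comm]
  · intro i hi
    have := e2 i (by omega)
    rwa [h0] at this
  · intro i j hij hj
    have := e3 i (by omega) j (by omega) (by omega)
    rw [h0] at this
    rw [this]
    beta_reduce
    have h3 : ∀ i < 8, ∀ j < 8, i < j →
        (j ∈ (ls [{1}, {0, 2}, {1, 3}, {2, 4, 7}, {3, 5}, {4, 6}, {5}, {3}] i) ↔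
        ((j = i + 1 ∧ j ≤ 6) ∨ (i = 3 ∧ j = 7))) := by decide
    simp only [h3 i (by omega) j (by omega) hij]

theorem e8 (h2 : ∀ i, T.a i i = -2 * T.w i) {u : ℕ → Fin n} (hp : IsPath T u 7)
    (x : Fin n) (hx : ∀ i ≤ 7, u i ≠ x) (hax : Adj T (u 5) x) :
    9 = n ∧ DE8 T (ext u 7 x) (T.m (u 0)) (T.w (u 0)) := by
  have hinj : ∀ i < 9, ∀ j < 9, ext u 7 x i = ext u 7 x j → i = j := by
    intro i hi j hj h
    by_cases hi' : i ≤ 7 <;> by_cases hj' : j ≤ 7
    · rw [ext_le hi', ext_le hj'] at h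
      exact hp.inj i hi' j hj' h
    · have : j = 8 := by omega
      rw [ext_le hi', this, ext_last] at h
      exact absurd h (hx i hi')
    · have : i = 8 := by omega
      rw [ext_le hj', this, ext_last] at h
      exact absurd h.symm (hx j hj')
    · omega
  have hadj : ∀ i j, (j = i + 1 ∧ j ≤ 7) ∨ (i = 5 ∧ j = 8) →
      1 ≤ N T (ext u 7 x i) (ext u 7 x j) ∧ 1 ≤ N T (ext u 7 x j) (ext u 7 x i) := by
    intro i j h
    rcases h with ⟨h, h'⟩ | ⟨h, h'⟩
    · rw [ext_le (by omega), ext_le h']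
      exact ⟨hp.one_le (by omega) (by omega), hp.one_le' (by omega) (by omega)⟩
    · rw [h, h', ext_last, ext_le (by omega)]
      exact ⟨hax.one_le, hax.symm.one_le⟩
  have hsN : ∀ i < 9, ∀ j ∈ ls [{1}, {0, 2}, {1, 3}, {2, 4}, {3, 5}, {4, 6, 8}, {5, 7}, {6}, {5}] i,
      ((j = i + 1 ∧ j ≤ 7) ∨ (i = 5 ∧ j = 8)) ∨ ((i = j + 1 ∧ i ≤ 7) ∨ (j = 5 ∧ i = 8)) := by
    decide
  obtain ⟨e1, e2, e3, e5⟩ := simple_key h2 (ext u 7 x) 9 (by omega) hinj
    (lv [1, 2, 3, 4, 5, 6, 4, 2, 3]) (by decide)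
    (ls [{1}, {0, 2}, {1, 3}, {2, 4}, {3, 5}, {4, 6, 8}, {5, 7}, {6}, {5}])
    (by decide)
    (fun i hi j hj => by
      rcases hsN i hi j hj with h3 | h3
      · exact (hadj i j h3).1
      · exact (hadj j i h3).2)
    (by decide)
  have h0 : ext u 7 x 0 = u 0 := ext_le (by omega)
  refine ⟨e1, ⟨by intro i hi j hj; exact hinj i (by omega) j (by omega), ?_, ?_, ?_⟩⟩
  · intro i hi
    have := e5 i (by omega) 0 (by omega)
    rw [h0] at this
    have h00 : lv [1, 2, 3, 4, 5, 6, 4, 2, 3] 0 = 1 := rfl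
    rw [h00, mul_one] at this
    rw [this, mul_comm]
  · intro i hi
    have := e2 i (by omega)
    rwa [h0] at this
  · intro i j hij hj
    have := e3 i (by omega) j (by omega) (by omega)
    rw [h0] at this
    rw [this]
    beta_reduce
    have h3 : ∀ i < 9, ∀ j < 9, i < j →
        (j ∈ (ls [{1}, {0, 2}, {1, 3}, {2, 4}, {3, 5}, {4, 6, 8}, {5, 7}, {6}, {5}] i) ↔
        ((j = i + 1 ∧ j ≤ 7) ∨ (i = 5 ∧ j = 8))) := by decide
    simp only [h3 i (by omega) j (by omega) hij]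

/-- The ordering for E6. -/
def ord6 (u : ℕ → Fin n) (x z : Fin n) : ℕ → Fin n
  | 0 => u 0
  | 1 => u 1
  | 2 => u 2
  | 3 => u 4
  | 4 => u 3
  | 5 => z
  | _ => x

set_option synthInstance.maxHeartbeats 400000 in
set_option synthInstance.maxSize 1000 in
theorem e6 (h2 : ∀ i, T.a i i = -2 * T.w i) {u : ℕ → Fin n} (hp : IsPath T u 4)
    (x z : Fin n) (hx : ∀ i ≤ 4, u i ≠ x) (hz : ∀ i ≤ 4, u i ≠ z) (hxz : x ≠ z)
    (hax : Adj T (u 2) x) (haz : Adj T x z) :
    7 = n ∧ DE6 T (ord6 u x z) (T.m (u 0)) (T.w (u 0)) := by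
  have hu : ∀ i ≤ 4, ∀ j ≤ 4, i ≠ j → u i ≠ u j := fun i hi j hj h h' => h (hp.inj i hi j hj h')
  have hinj : ∀ i < 7, ∀ j < 7, ord6 u x z i = ord6 u x z j → i = j := by
    intro i hi j hj h
    by_contra hne
    have key : ∀ i < 7, ∀ j < 7, i < j → ord6 u x z i ≠ ord6 u x z j := by
      intro i hi j hj hij
      interval_cases i <;> interval_cases j <;> simp only [ord6] <;>
      first
        | exact hxz.symm
        | exact hx _ (by omega)
        | exact hz _ (by omega)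
        | exact hu _ (by omega) _ (by omega) (by omega)
    rcases lt_or_gt_of_ne hne with h3 | h3
    · exact key i hi j hj h3 h
    · exact key j hj i hi h3 h.symm
  have hadj : ∀ i j, ((i = 0 ∧ j = 1) ∨ (i = 1 ∧ j = 2) ∨ (i = 3 ∧ j = 4) ∨ (i = 2 ∧ j = 4) ∨
      (i = 5 ∧ j = 6) ∨ (i = 2 ∧ j = 6)) →
      1 ≤ N T (ord6 u x z i) (ord6 u x z j) ∧ 1 ≤ N T (ord6 u x z j) (ord6 u x z i) := by
    intro i j h
    rcases h with ⟨h, h'⟩ | ⟨h, h'⟩ | ⟨h, h'⟩ | ⟨h, h'⟩ | ⟨h, h'⟩ | ⟨h, h'⟩ <;> subst h <;> subst h' <;>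
      simp only [ord6]
    · exact ⟨hp.one_le (by omega) (by omega), hp.one_le' (by omega) (by omega)⟩
    · exact ⟨hp.one_le (by omega) (by omega), hp.one_le' (by omega) (by omega)⟩
    · exact ⟨hp.one_le' (by omega) (by omega), hp.one_le (by omega) (by omega)⟩
    · exact ⟨hp.one_le (by omega) (by omega), hp.one_le' (by omega) (by omega)⟩
    · exact ⟨haz.symm.one_le, haz.one_le⟩
    · exact ⟨hax.one_le, hax.symm.one_le⟩
  have hsN : ∀ i < 7, ∀ j ∈ ls [{1}, {0, 2}, {1, 4, 6}, {4}, {3, 2}, {6}, {5, 2}] i,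
      ((i = 0 ∧ j = 1) ∨ (i = 1 ∧ j = 2) ∨ (i = 3 ∧ j = 4) ∨ (i = 2 ∧ j = 4) ∨
      (i = 5 ∧ j = 6) ∨ (i = 2 ∧ j = 6)) ∨
      ((j = 0 ∧ i = 1) ∨ (j = 1 ∧ i = 2) ∨ (j = 3 ∧ i = 4) ∨ (j = 2 ∧ i = 4) ∨
      (j = 5 ∧ i = 6) ∨ (j = 2 ∧ i = 6)) := by
    decide
  obtain ⟨e1, e2, e3, e5⟩ := simple_key h2 (ord6 u x z) 7 (by omega) hinj
    (lv [1, 2, 3, 1, 2, 1, 2]) (by decide)
    (ls [{1}, {0, 2}, {1, 4, 6}, {4}, {3, 2}, {6}, {5, 2}])
    (by decide)
    (fun i hi j hj => by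
      rcases hsN i hi j hj with h3 | h3
      · exact (hadj i j h3).1
      · exact (hadj j i h3).2)
    (by decide)
  have h0 : ord6 u x z 0 = u 0 := rfl
  refine ⟨e1, ⟨by intro i hi j hj; exact hinj i (by omega) j (by omega), ?_, ?_, ?_⟩⟩
  · intro i hi
    have := e5 i (by omega) 0 (by omega)
    rw [h0] at this
    have h00 : lv [1, 2, 3, 1, 2, 1, 2] 0 = 1 := rfl
    rw [h00, mul_one] at this
    rw [this, mul_comm]
  · intro i hi
    have := e2 i (by omega)
    rwa [h0] at this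
  · intro i j hij hj
    have := e3 i (by omega) j (by omega) (by omega)
    rw [h0] at this
    rw [this]
    beta_reduce
    have h3 : ∀ i < 7, ∀ j < 7, i < j →
        (j ∈ (ls [{1}, {0, 2}, {1, 4, 6}, {4}, {3, 2}, {6}, {5, 2}] i) ↔
        ((i = 0 ∧ j = 1) ∨ (i = 1 ∧ j = 2) ∨ (i = 3 ∧ j = 4) ∨ (i = 2 ∧ j = 4) ∨
      (i = 5 ∧ j = 6) ∨ (i = 2 ∧ j = 6))) := by decide
    simp only [h3 i (by omega) j (by omega) hij]

theorem f1 (h2 : ∀ i, T.a i i = -2 * T.w i) {u : ℕ → Fin n} (hp : IsPath T u 4)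
    (ha : 2 ≤ N T (u 2) (u 3)) : 5 = n ∧ DF1 T u (T.m (u 0)) (T.w (u 0)) := by
  have a01 := hp.one_le (i := 0) (j := 1) rfl (by omega)
  have a12 := hp.one_le (i := 1) (j := 2) rfl (by omega)
  have a34 := hp.one_le (i := 3) (j := 4) rfl (by omega)
  have b01 := hp.one_le' (i := 0) (j := 1) rfl (by omega)
  have b12 := hp.one_le' (i := 1) (j := 2) rfl (by omega)
  have b23 := hp.one_le' (i := 2) (j := 3) rfl (by omega)
  have b34 := hp.one_le' (i := 3) (j := 4) rfl (by omega)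
  obtain ⟨e1, e2, e3, e4, e5, e6⟩ := chain_key (fun i _ => h2 (u i)) hp (by omega) (lv [1, 2, 3, 2, 1])
    (by decide)
    (by show 2 * 1 ≤ N T (u 0) (u 1) * 2; linarith)
    (by show 2 * 1 ≤ N T (u 4) (u 3) * 2; linarith)
    (fun i hi hik => by
      have hi' : i = 1 ∨ i = 2 ∨ i = 3 := by omega
      rcases hi' with rfl | rfl | rfl
      · show 2 * 2 ≤ N T (u 1) (u 0) * 1 + N T (u 1) (u 2) * 3; linarith
      · show 2 * 3 ≤ N T (u 2) (u 1) * 2 + N T (u 2) (u 3) * 2; linarith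
      · show 2 * 2 ≤ N T (u 3) (u 2) * 3 + N T (u 3) (u 4) * 1; linarith)
  have q1 : N T (u 1) (u 0) * 1 + N T (u 1) (u 2) * 3 = 2 * 2 := e4 1 (by omega) (by omega)
  have q2 : N T (u 2) (u 1) * 2 + N T (u 2) (u 3) * 2 = 2 * 3 := e4 2 (by omega) (by omega)
  have q3 : N T (u 3) (u 2) * 3 + N T (u 3) (u 4) * 1 = 2 * 2 := e4 3 (by omega) (by omega)
  have q0 : N T (u 0) (u 1) * 2 = 2 * 1 := e2
  have q4 : N T (u 4) (u 3) * 2 = 2 * 1 := e3
  have n01 : N T (u 0) (u 1) = 1 := by linarith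
  have n10 : N T (u 1) (u 0) = 1 := by linarith
  have n12 : N T (u 1) (u 2) = 1 := by linarith
  have n21 : N T (u 2) (u 1) = 1 := by linarith
  have n23 : N T (u 2) (u 3) = 2 := by linarith
  have n32 : N T (u 3) (u 2) = 1 := by linarith
  have n34 : N T (u 3) (u 4) = 1 := by linarith
  have n43 : N T (u 4) (u 3) = 1 := by linarith
  have w1 : T.w (u 1) = T.w (u 0) := w_eq_of_N_one n10 n01
  have w2 : T.w (u 2) = T.w (u 0) := by rw [← w1]; exact w_eq_of_N_one n21 n12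
  have w3 : T.w (u 3) = 2 * T.w (u 0) := by
    have := w_eq_of_N n23 n32
    rw [← w2]; linarith
  have w4 : T.w (u 4) = 2 * T.w (u 0) := by rw [← w3]; exact w_eq_of_N_one n43 n34
  refine ⟨e1, ⟨fun i hi j hj h => hp.inj i (by omega) j (by omega) h, ?_, ?_, ?_⟩⟩
  · intro i hi
    have := e6 i (by omega) 0 (by omega)
    have h00 : lv [1, 2, 3, 2, 1] 0 = 1 := rfl
    rw [h00, mul_one] at this
    rw [this, mul_comm]
  · intro i hi
    have hi' : i < 5 := by omega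
    interval_cases i
    · show _ = 1 * _; rw [one_mul]
    · show _ = 1 * _; rw [one_mul, w1]
    · show _ = 1 * _; rw [one_mul, w2]
    · exact w3
    · exact w4
  · intro i j hij hj
    beta_reduce
    by_cases h3 : j = i + 1
    · rw [if_pos h3, h3, a_eq]
      have hi' : i < 4 := by omega
      interval_cases i
      · show _ = 1 * _; rw [n01]; ring
      · show _ = 1 * _; rw [n12, w1]; ring
      · show _ = 2 * _; rw [n23, w2]; ring
      · show _ = 2 * _; rw [n34, w3]; ring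
    · rw [if_neg h3, a_eq, e5 i j (by omega) (by omega), mul_zero]

theorem f2 (h2 : ∀ i, T.a i i = -2 * T.w i) {u : ℕ → Fin n} (hp : IsPath T u 4)
    (ha : 2 ≤ N T (u 3) (u 2)) : 5 = n ∧ DF2 T u (T.m (u 0)) (T.w (u 4)) := by
  have a01 := hp.one_le (i := 0) (j := 1) rfl (by omega)
  have a12 := hp.one_le (i := 1) (j := 2) rfl (by omega)
  have a23 := hp.one_le (i := 2) (j := 3) rfl (by omega)
  have a34 := hp.one_le (i := 3) (j := 4) rfl (by omega)
  have b01 := hp.one_le' (i := 0) (j := 1) rfl (by omega)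
  have b12 := hp.one_le' (i := 1) (j := 2) rfl (by omega)
  have b34 := hp.one_le' (i := 3) (j := 4) rfl (by omega)
  obtain ⟨e1, e2, e3, e4, e5, e6⟩ := chain_key (fun i _ => h2 (u i)) hp (by omega) (lv [1, 2, 3, 4, 2])
    (by decide)
    (by show 2 * 1 ≤ N T (u 0) (u 1) * 2; linarith)
    (by show 2 * 2 ≤ N T (u 4) (u 3) * 4; linarith)
    (fun i hi hik => by
      have hi' : i = 1 ∨ i = 2 ∨ i = 3 := by omega
      rcases hi' with rfl | rfl | rfl
      · show 2 * 2 ≤ N T (u 1) (u 0) * 1 + N T (u 1) (u 2) * 3; linarith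
      · show 2 * 3 ≤ N T (u 2) (u 1) * 2 + N T (u 2) (u 3) * 4; linarith
      · show 2 * 4 ≤ N T (u 3) (u 2) * 3 + N T (u 3) (u 4) * 2; linarith)
  have q1 : N T (u 1) (u 0) * 1 + N T (u 1) (u 2) * 3 = 2 * 2 := e4 1 (by omega) (by omega)
  have q2 : N T (u 2) (u 1) * 2 + N T (u 2) (u 3) * 4 = 2 * 3 := e4 2 (by omega) (by omega)
  have q3 : N T (u 3) (u 2) * 3 + N T (u 3) (u 4) * 2 = 2 * 4 := e4 3 (by omega) (by omega)
  have q0 : N T (u 0) (u 1) * 2 = 2 * 1 := e2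
  have q4 : N T (u 4) (u 3) * 4 = 2 * 2 := e3
  have n01 : N T (u 0) (u 1) = 1 := by linarith
  have n10 : N T (u 1) (u 0) = 1 := by linarith
  have n12 : N T (u 1) (u 2) = 1 := by linarith
  have n21 : N T (u 2) (u 1) = 1 := by linarith
  have n23 : N T (u 2) (u 3) = 1 := by linarith
  have n32 : N T (u 3) (u 2) = 2 := by linarith
  have n34 : N T (u 3) (u 4) = 1 := by linarith
  have n43 : N T (u 4) (u 3) = 1 := by linarith
  have w3 : T.w (u 3) = T.w (u 4) := w_eq_of_N_one n34 n43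
  have w2 : T.w (u 2) = 2 * T.w (u 4) := by
    have := w_eq_of_N n23 n32
    rw [← w3]; linarith
  have w1 : T.w (u 1) = 2 * T.w (u 4) := by rw [← w2]; exact w_eq_of_N_one n12 n21
  have w0 : T.w (u 0) = 2 * T.w (u 4) := by rw [← w1]; exact w_eq_of_N_one n01 n10
  refine ⟨e1, ⟨fun i hi j hj h => hp.inj i (by omega) j (by omega) h, ?_, ?_, ?_⟩⟩
  · intro i hi
    have := e6 i (by omega) 0 (by omega)
    have h00 : lv [1, 2, 3, 4, 2] 0 = 1 := rfl
    rw [h00, mul_one] at this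
    rw [this, mul_comm]
  · intro i hi
    have hi' : i < 5 := by omega
    interval_cases i
    · exact w0
    · exact w1
    · exact w2
    · show _ = 1 * _; rw [one_mul, w3]
    · show _ = 1 * _; rw [one_mul]
  · intro i j hij hj
    beta_reduce
    by_cases h3 : j = i + 1
    · rw [if_pos h3, h3, a_eq]
      have hi' : i < 4 := by omega
      interval_cases i
      · show _ = 2 * _; rw [n01, w0]; ring
      · show _ = 2 * _; rw [n12, w1]; ring
      · show _ = 2 * _; rw [n23, w2]; ring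
      · show _ = 1 * _; rw [n34, w3]; ring
    · rw [if_neg h3, a_eq, e5 i j (by omega) (by omega), mul_zero]

theorem g1 (h2 : ∀ i, T.a i i = -2 * T.w i) {u : ℕ → Fin n} (hp : IsPath T u 2)
    (ha : 3 ≤ N T (u 1) (u 2)) : 3 = n ∧ DG1 T u (T.m (u 0)) (T.w (u 0)) := by
  have a01 := hp.one_le (i := 0) (j := 1) rfl (by omega)
  have b01 := hp.one_le' (i := 0) (j := 1) rfl (by omega)
  have b12 := hp.one_le' (i := 1) (j := 2) rfl (by omega)
  obtain ⟨e1, e2, e3, e4, e5, e6⟩ := chain_key (fun i _ => h2 (u i)) hp (by omega) (lv [1, 2, 1])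
    (by decide)
    (by show 2 * 1 ≤ N T (u 0) (u 1) * 2; linarith)
    (by show 2 * 1 ≤ N T (u 2) (u 1) * 2; linarith)
    (fun i hi hik => by
      have hi' : i = 1 := by omega
      rcases hi' with rfl
      show 2 * 2 ≤ N T (u 1) (u 0) * 1 + N T (u 1) (u 2) * 1; linarith)
  have q1 : N T (u 1) (u 0) * 1 + N T (u 1) (u 2) * 1 = 2 * 2 := e4 1 (by omega) (by omega)
  have q0 : N T (u 0) (u 1) * 2 = 2 * 1 := e2
  have q2 : N T (u 2) (u 1) * 2 = 2 * 1 := e3
  have n01 : N T (u 0) (u 1) = 1 := by linarith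
  have n10 : N T (u 1) (u 0) = 1 := by linarith
  have n12 : N T (u 1) (u 2) = 3 := by linarith
  have n21 : N T (u 2) (u 1) = 1 := by linarith
  have w1 : T.w (u 1) = T.w (u 0) := w_eq_of_N_one n10 n01
  have w2 : T.w (u 2) = 3 * T.w (u 0) := by
    have := w_eq_of_N n12 n21
    rw [← w1]; linarith
  refine ⟨e1, ⟨fun i hi j hj h => hp.inj i (by omega) j (by omega) h, ?_, ?_, ?_⟩⟩
  · intro i hi
    have := e6 i (by omega) 0 (by omega)
    have h00 : lv [1, 2, 1] 0 = 1 := rfl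
    rw [h00, mul_one] at this
    rw [this, mul_comm]
  · intro i hi
    have hi' : i < 3 := by omega
    interval_cases i
    · show _ = 1 * _; rw [one_mul]
    · show _ = 1 * _; rw [one_mul, w1]
    · exact w2
  · intro i j hij hj
    beta_reduce
    by_cases h3 : j = i + 1
    · rw [if_pos h3, h3, a_eq]
      have hi' : i < 2 := by omega
      interval_cases i
      · show _ = 1 * _; rw [n01]; ring
      · show _ = 3 * _; rw [n12, w1]; ring
    · rw [if_neg h3, a_eq, e5 i j (by omega) (by omega), mul_zero]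

theorem g2 (h2 : ∀ i, T.a i i = -2 * T.w i) {u : ℕ → Fin n} (hp : IsPath T u 2)
    (ha : 3 ≤ N T (u 2) (u 1)) : 3 = n ∧ DG2 T u (T.m (u 0)) (T.w (u 2)) := by
  have a01 := hp.one_le (i := 0) (j := 1) rfl (by omega)
  have b01 := hp.one_le' (i := 0) (j := 1) rfl (by omega)
  have a12 := hp.one_le (i := 1) (j := 2) rfl (by omega)
  obtain ⟨e1, e2, e3, e4, e5, e6⟩ := chain_key (fun i _ => h2 (u i)) hp (by omega) (lv [1, 2, 3])
    (by decide)
    (by show 2 * 1 ≤ N T (u 0) (u 1) * 2; linarith)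
    (by show 2 * 3 ≤ N T (u 2) (u 1) * 2; linarith)
    (fun i hi hik => by
      have hi' : i = 1 := by omega
      rcases hi' with rfl
      show 2 * 2 ≤ N T (u 1) (u 0) * 1 + N T (u 1) (u 2) * 3; linarith)
  have q1 : N T (u 1) (u 0) * 1 + N T (u 1) (u 2) * 3 = 2 * 2 := e4 1 (by omega) (by omega)
  have q0 : N T (u 0) (u 1) * 2 = 2 * 1 := e2
  have q2 : N T (u 2) (u 1) * 2 = 2 * 3 := e3
  have n01 : N T (u 0) (u 1) = 1 := by linarith
  have n10 : N T (u 1) (u 0) = 1 := by linarith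
  have n12 : N T (u 1) (u 2) = 1 := by linarith
  have n21 : N T (u 2) (u 1) = 3 := by linarith
  have w1 : T.w (u 1) = 3 * T.w (u 2) := by
    have := w_eq_of_N n12 n21
    linarith
  have w0 : T.w (u 0) = 3 * T.w (u 2) := by rw [← w1]; exact w_eq_of_N_one n01 n10
  refine ⟨e1, ⟨fun i hi j hj h => hp.inj i (by omega) j (by omega) h, ?_, ?_, ?_⟩⟩
  · intro i hi
    have := e6 i (by omega) 0 (by omega)
    have h00 : lv [1, 2, 3] 0 = 1 := rfl
    rw [h00, mul_one] at this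
    rw [this, mul_comm]
  · intro i hi
    have hi' : i < 3 := by omega
    interval_cases i
    · exact w0
    · exact w1
    · show _ = 1 * _; rw [one_mul]
  · intro i j hij hj
    beta_reduce
    by_cases h3 : j = i + 1
    · rw [if_pos h3, h3, a_eq]
      have hi' : i < 2 := by omega
      interval_cases i
      · show _ = 3 * _; rw [n01, w0]; ring
      · show _ = 3 * _; rw [n12, w1]; ring
    · rw [if_neg h3, a_eq, e5 i j (by omega) (by omega), mul_zero]

/-- The dual lemma, used to exclude the finite types. -/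
theorem neg_key (h2 : ∀ i, T.a i i = -2 * T.w i) (u : ℕ → Fin n) (K : ℕ) (hsurj : ∀ x : Fin n, ∃ i < K, u i = x)
    (y : ℕ → ℤ)
    (s : ℕ → Finset ℕ) (hs : ∀ i < K, ∀ j ∈ s i, j < K ∧ j ≠ i)
    (hz : ∀ i < K, ∀ j < K, j ≠ i → j ∉ s i → N T (u i) (u j) = 0)
    (h : ∀ i < K, ∑ j ∈ s i, N T (u i) (u j) * y j ≤ 2 * y i) :
    ∀ i < K, ∑ j ∈ s i, N T (u i) (u j) * y j = 2 * y i := by
  classical
  set S : Fin n → ℤ := fun x => ∑ j ∈ range K, N T x (u j) * y j with hS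
  have hsplit : ∀ i < K, S (u i) = (-2) * y i + ∑ j ∈ s i, N T (u i) (u j) * y j := by
    intro i hi
    have h1 : S (u i) = N T (u i) (u i) * y i +
        ∑ j ∈ (range K).erase i, N T (u i) (u j) * y j := by
      rw [hS]
      exact (Finset.add_sum_erase _ _ (Finset.mem_range.2 hi)).symm
    have hsub : s i ⊆ (range K).erase i := fun j hj =>
      Finset.mem_erase.2 ⟨(hs i hi j hj).2, Finset.mem_range.2 (hs i hi j hj).1⟩
    rw [h1, N_diag (h2 (u i)), Finset.sum_subset hsub (fun j hj hjs => by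
      rw [Finset.mem_erase, Finset.mem_range] at hj
      rw [hz i hi j hj.2 hj.1 hjs, zero_mul])]
  have hSneg : ∀ x : Fin n, S x ≤ 0 := by
    intro x
    obtain ⟨i, hi, rfl⟩ := hsurj x
    rw [hsplit i hi]
    have h5 := h i hi
    linarith
  have hsum : ∑ x, T.m x * (T.w x * S x) = 0 := by
    have e1 : ∀ x, T.m x * (T.w x * S x) = ∑ j ∈ range K, y j * (T.m x * T.a x (u j)) := by
      intro x
      rw [hS]
      rw [Finset.mul_sum, Finset.mul_sum]
      refine Finset.sum_congr rfl fun j _ => ?_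
      rw [a_eq T x (u j)]
      ring
    simp only [e1]
    rw [Finset.sum_comm]
    refine Finset.sum_eq_zero fun j _ => ?_
    rw [← Finset.mul_sum, col_sum T (u j), mul_zero]
  have hzero : ∀ x, S x = 0 := by
    intro x
    have h6 := (Finset.sum_eq_zero_iff_of_nonpos (s := Finset.univ)
      (f := fun x => T.m x * (T.w x * S x)) (fun x _ => mul_nonpos_of_nonneg_of_nonpos (T.m_pos x).le
        (mul_nonpos_of_nonneg_of_nonpos (T.w_pos x).le (hSneg x)))).1 hsum x (Finset.mem_univ x)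
    rcases mul_eq_zero.1 h6 with h7 | h7
    · exact absurd h7 (T.m_pos x).ne'
    · rcases mul_eq_zero.1 h7 with h8 | h8
      · exact absurd h8 (T.w_pos x).ne'
      · exact h8
  intro i hi
  have h7 := hsplit i hi
  rw [hzero (u i)] at h7
  linarith

end K379.Affine
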