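import Groth.Prelude.Def_Models
import Groth.Agent.Models.NumBasic
import Mathlib.Tactic.LinearCombination
import Mathlib.Tactic.FinCases

/-!
# Affine configurations in numerical types

The Cartan numbers `N i j = a i j / w i` of a numerical type and the basic linear lemma: a positive
vector `y` on a set of (-2)-indices whose image under the matrix is non-negative on that set forces
the set to be everything and `y` to be proportional to the multiplicities.
Then paths and cycles of indices.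
-/

set_option autoImplicit false

open Finset

namespace K379.Affine

open Groth.Agent.Models.NumBasic

variable {n : ℕ} (T : _root_.Models.NumericalType n)

/-- The Cartan numbers. -/
def N (i j : Fin n) : ℤ := T.a i j / T.w i

theorem a_eq (i j : Fin n) : T.a i j = T.w i * N T i j :=
  (Int.mul_ediv_cancel' (T.w_dvd i j)).symm

theorem w_mul_N (i j : Fin n) : T.w i * N T i j = T.w j * N T j i := by
  rw [← a_eq, ← a_eq, a_symm]

theorem N_nonneg {i j : Fin n} (h : i ≠ j) : 0 ≤ N T i j :=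
  Int.ediv_nonneg (T.offDiag_nonneg i j h) (T.w_pos i).le

theorem N_eq_zero_iff (i j : Fin n) : N T i j = 0 ↔ T.a i j = 0 := by
  constructor
  · intro h
    rw [a_eq, h, mul_zero]
  · intro h
    have h1 := a_eq T i j
    rw [h] at h1
    rcases mul_eq_zero.1 h1.symm with h2 | h2
    · exact absurd h2 (T.w_pos i).ne'
    · exact h2

theorem N_eq_zero_comm (i j : Fin n) : N T i j = 0 ↔ N T j i = 0 := by
  rw [N_eq_zero_iff, N_eq_zero_iff, a_symm]

/-- Adjacency. -/
def Adj (i j : Fin n) : Prop := i ≠ j ∧ N T i j ≠ 0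

variable {T}

theorem Adj.symm {i j : Fin n} (h : Adj T i j) : Adj T j i :=
  ⟨h.1.symm, fun h' => h.2 ((N_eq_zero_comm T i j).2 h')⟩

theorem Adj.one_le {i j : Fin n} (h : Adj T i j) : 1 ≤ N T i j := by
  have h1 := N_nonneg T h.1
  have h2 := h.2
  omega

theorem Adj.ne {i j : Fin n} (h : Adj T i j) : i ≠ j := h.1

theorem N_eq_zero_of_not_adj {i j : Fin n} (hij : i ≠ j) (h : ¬ Adj T i j) : N T i j = 0 := by
  by_contra h'
  exact h ⟨hij, h'⟩

theorem N_diag {i : Fin n} (h : T.a i i = -2 * T.w i) : N T i i = -2 := by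
  unfold N
  rw [h]
  exact Int.mul_ediv_cancel _ (T.w_pos i).ne'

/-- The linear lemma. -/
theorem key_zero (u : ℕ → Fin n) (K : ℕ) (h2 : ∀ i < K, T.a (u i) (u i) = -2 * T.w (u i))
    (hu : ∀ i < K, ∀ j < K, u i = u j → i = j)
    (y : ℕ → ℤ) (hy : ∀ i < K, 0 < y i)
    (s : ℕ → Finset ℕ) (hs : ∀ i < K, ∀ j ∈ s i, j < K ∧ j ≠ i)
    (h : ∀ i < K, 2 * y i ≤ ∑ j ∈ s i, N T (u i) (u j) * y j) :
    (∀ x : Fin n, ∑ j ∈ range K, N T x (u j) * y j = 0) ∧
    (∀ i < K, ∑ j ∈ s i, N T (u i) (u j) * y j = 2 * y i) ∧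
    (∀ i < K, ∀ j < K, j ≠ i → j ∉ s i → N T (u i) (u j) = 0) := by
  classical
  set S : Fin n → ℤ := fun x => ∑ j ∈ range K, N T x (u j) * y j with hS
  -- the decomposition at an index of the set
  have hsplit : ∀ i < K, S (u i) = (-2) * y i + ∑ j ∈ s i, N T (u i) (u j) * y j +
      ∑ j ∈ (range K).erase i \ s i, N T (u i) (u j) * y j := by
    intro i hi
    have h1 : S (u i) = N T (u i) (u i) * y i +
        ∑ j ∈ (range K).erase i, N T (u i) (u j) * y j := by
      rw [hS]
      exact (Finset.add_sum_erase _ _ (Finset.mem_range.2 hi)).symm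
    have hsub : s i ⊆ (range K).erase i := fun j hj =>
      Finset.mem_erase.2 ⟨(hs i hi j hj).2, Finset.mem_range.2 (hs i hi j hj).1⟩
    have h3 := Finset.sum_sdiff (f := fun j => N T (u i) (u j) * y j) hsub
    rw [h1, N_diag (h2 i hi), ← h3]
    ring
  have hrest : ∀ i < K, ∀ j ∈ (range K).erase i \ s i, 0 ≤ N T (u i) (u j) * y j := by
    intro i hi j hj
    rw [Finset.mem_sdiff, Finset.mem_erase, Finset.mem_range] at hj
    refine mul_nonneg (N_nonneg T fun h' => hj.1.1 (hu i hi j hj.1.2 h').symm) (hy j hj.1.2).le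
  have hSpos : ∀ x : Fin n, 0 ≤ S x := by
    intro x
    by_cases hx : ∃ i < K, u i = x
    · obtain ⟨i, hi, rfl⟩ := hx
      rw [hsplit i hi]
      have h4 := Finset.sum_nonneg (hrest i hi)
      have h5 := h i hi
      linarith
    · push Not at hx
      refine Finset.sum_nonneg fun j hj => ?_
      rw [Finset.mem_range] at hj
      exact mul_nonneg (N_nonneg T (hx j hj).symm) (hy j hj).le
  have hsum : ∑ x, T.m x * (T.w x * S x) = 0 := by
    have e1 : ∀ x, T.m x * (T.w x * S x) = ∑ j ∈ range K, y j * (T.m x * T.a x (u j)) := by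
      intro x
      rw [hS]
      simp only
      rw [Finset.mul_sum, Finset.mul_sum]
      refine Finset.sum_congr rfl fun j _ => ?_
      rw [a_eq T x (u j)]
      ring
    simp only [e1]
    rw [Finset.sum_comm]
    refine Finset.sum_eq_zero fun j _ => ?_
    rw [← Finset.mul_sum, col_sum T (u j), mul_zero]
  have hzero : ∀ x, S x = 0 := by
    intro x
    have h6 := (Finset.sum_eq_zero_iff_of_nonneg (s := Finset.univ)
      (f := fun x => T.m x * (T.w x * S x)) (fun x _ => mul_nonneg (T.m_pos x).le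
        (mul_nonneg (T.w_pos x).le (hSpos x)))).1 hsum x (Finset.mem_univ x)
    rcases mul_eq_zero.1 h6 with h7 | h7
    · exact absurd h7 (T.m_pos x).ne'
    · rcases mul_eq_zero.1 h7 with h8 | h8
      · exact absurd h8 (T.w_pos x).ne'
      · exact h8
  refine ⟨hzero, ?_, ?_⟩
  · intro i hi
    have h7 := hsplit i hi
    rw [hzero (u i)] at h7
    have h4 := Finset.sum_nonneg (hrest i hi)
    have h5 := h i hi
    linarith
  · intro i hi j hj hji hjs
    have h7 := hsplit i hi
    rw [hzero (u i)] at h7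
    have h4 := Finset.sum_nonneg (hrest i hi)
    have h5 := h i hi
    have h8 : ∑ j ∈ (range K).erase i \ s i, N T (u i) (u j) * y j = 0 := by linarith
    have h9 := (Finset.sum_eq_zero_iff_of_nonneg (hrest i hi)).1 h8 j
      (by rw [Finset.mem_sdiff, Finset.mem_erase, Finset.mem_range]; exact ⟨⟨hji, hj⟩, hjs⟩)
    rcases mul_eq_zero.1 h9 with h10 | h10
    · exact h10
    · exact absurd h10 (hy j hj).ne'

/-- Surjectivity. -/
theorem key_surj (u : ℕ → Fin n) (K : ℕ) (hK : 0 < K)
    (y : ℕ → ℤ) (hy : ∀ i < K, 0 < y i)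
    (h : ∀ x : Fin n, ∑ j ∈ range K, N T x (u j) * y j = 0) (x : Fin n) : ∃ i < K, u i = x := by
  classical
  by_contra hx
  obtain ⟨i, hi, j, hj, hij⟩ := T.connected ((range K).image u)
    ⟨u 0, Finset.mem_image_of_mem _ (Finset.mem_range.2 hK)⟩ (by
      intro h'
      have h1 : x ∈ (range K).image u := by rw [h']; exact Finset.mem_univ x
      rw [Finset.mem_image] at h1
      obtain ⟨i, hi, hix⟩ := h1
      exact hx ⟨i, Finset.mem_range.1 hi, hix⟩)
  rw [Finset.mem_image] at hi
  obtain ⟨i, hi, rfl⟩ := hi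
  have hne : ∀ l ∈ range K, j ≠ u l := by
    intro l hl h'
    exact hj (h' ▸ Finset.mem_image_of_mem _ hl)
  have h1 := (Finset.sum_eq_zero_iff_of_nonneg (fun l hl =>
    mul_nonneg (N_nonneg T (hne l hl)) (hy l (Finset.mem_range.1 hl)).le)).1 (h j) i hi
  rcases mul_eq_zero.1 h1 with h2 | h2
  · rw [N_eq_zero_comm, N_eq_zero_iff] at h2
    exact hij h2
  · exact absurd h2 (hy i (Finset.mem_range.1 hi)).ne'

/-- Proportionality. -/
theorem key_prop (u : ℕ → Fin n) (K : ℕ)
    (hu : ∀ i < K, ∀ j < K, u i = u j → i = j) (hsurj : ∀ x : Fin n, ∃ i < K, u i = x)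
    (y : ℕ → ℤ) (hy : ∀ i < K, 0 < y i)
    (h : ∀ x : Fin n, ∑ j ∈ range K, N T x (u j) * y j = 0) :
    ∀ i < K, ∀ j < K, T.m (u i) * y j = T.m (u j) * y i := by
  classical
  -- the vector on `Fin n`
  choose r hr1 hr2 using hsurj
  have hru : ∀ i < K, r (u i) = i := fun i hi => hu _ (hr1 _) _ hi (hr2 _)
  set Y : Fin n → ℤ := fun x => y (r x) with hY
  have hYpos : ∀ x, 0 < Y x := fun x => hy _ (hr1 x)
  have hYsum : ∀ x : Fin n, ∑ z, N T x z * Y z = 0 := by
    intro x
    rw [← h x]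
    symm
    refine Finset.sum_bij' (fun i _ => u i) (fun z _ => r z) ?_ ?_ ?_ ?_ ?_
    · intro i _; exact Finset.mem_univ _
    · intro z _; exact Finset.mem_range.2 (hr1 z)
    · intro i hi; exact hru i (Finset.mem_range.1 hi)
    · intro z _; exact hr2 z
    · intro i hi
      simp only [hY]
      rw [hru i (Finset.mem_range.1 hi)]
  have hMsum : ∀ x : Fin n, ∑ z, N T x z * T.m z = 0 := by
    intro x
    have h1 := row_sum T x
    have h3 : T.w x * ∑ z, N T x z * T.m z = 0 := by
      rw [Finset.mul_sum, ← h1]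
      refine Finset.sum_congr rfl fun z _ => ?_
      rw [a_eq T x z]
      ring
    rcases mul_eq_zero.1 h3 with h4 | h4
    · exact absurd h4 (T.w_pos x).ne'
    · exact h4
  -- choose the index maximizing `Y / m`
  have : Nonempty (Fin n) := ⟨⟨0, T.pos⟩⟩
  obtain ⟨x0, -, hx0⟩ := Finset.exists_max_image (Finset.univ : Finset (Fin n))
    (fun x => (Y x : ℚ) / (T.m x : ℚ)) Finset.univ_nonempty
  have hz : ∀ x, 0 ≤ Y x0 * T.m x - T.m x0 * Y x := by
    intro x
    have h1 := hx0 x (Finset.mem_univ x)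
    have hm : (0 : ℚ) < (T.m x : ℚ) := by exact_mod_cast T.m_pos x
    have hm0 : (0 : ℚ) < (T.m x0 : ℚ) := by exact_mod_cast T.m_pos x0
    rw [div_le_div_iff₀ hm hm0] at h1
    have h3 : Y x * T.m x0 ≤ Y x0 * T.m x := by exact_mod_cast h1
    linarith
  have hzsum : ∀ x : Fin n, ∑ z, N T x z * (Y x0 * T.m z - T.m x0 * Y z) = 0 := by
    intro x
    have : ∑ z, N T x z * (Y x0 * T.m z - T.m x0 * Y z) =
        Y x0 * (∑ z, N T x z * T.m z) - T.m x0 * ∑ z, N T x z * Y z := by
      rw [Finset.mul_sum, Finset.mul_sum, ← Finset.sum_sub_distrib]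
      refine Finset.sum_congr rfl fun z _ => ?_
      ring
    rw [this, hMsum, hYsum]
    ring
  -- the zero set is everything
  have hall : ∀ x, Y x0 * T.m x - T.m x0 * Y x = 0 := by
    by_contra hne
    push Not at hne
    obtain ⟨x1, hx1⟩ := hne
    obtain ⟨i, hi, j, hj, hij⟩ := T.connected
      (Finset.univ.filter fun x => Y x0 * T.m x - T.m x0 * Y x = 0)
      ⟨x0, by simp [mul_comm]⟩ (by
        intro h'
        have h1 : x1 ∈ (Finset.univ.filter fun x => Y x0 * T.m x - T.m x0 * Y x = 0) := by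
          rw [h']; exact Finset.mem_univ _
        exact hx1 (Finset.mem_filter.1 h1).2)
    rw [Finset.mem_filter] at hi hj
    have hj' : Y x0 * T.m j - T.m x0 * Y j ≠ 0 := fun h' => hj ⟨Finset.mem_univ _, h'⟩
    have hterm : ∀ z ∈ (Finset.univ : Finset (Fin n)),
        0 ≤ N T i z * (Y x0 * T.m z - T.m x0 * Y z) := by
      intro z _
      by_cases hiz : i = z
      · subst hiz
        rw [hi.2, mul_zero]
      · exact mul_nonneg (N_nonneg T hiz) (hz z)
    have h1 := (Finset.sum_eq_zero_iff_of_nonneg hterm).1 (hzsum i) j (Finset.mem_univ _)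
    rcases mul_eq_zero.1 h1 with h3 | h3
    · exact hij ((N_eq_zero_iff T i j).1 h3)
    · exact hj' h3
  intro i hi j hj
  have h1 := hall (u i)
  have h3 := hall (u j)
  have e1 : Y (u i) = y i := by simp only [hY]; rw [hru i hi]
  have e2 : Y (u j) = y j := by simp only [hY]; rw [hru j hj]
  rw [e1] at h1
  rw [e2] at h3
  have h4 : Y x0 * (T.m (u i) * y j) = Y x0 * (T.m (u j) * y i) := by
    linear_combination y j * h1 - y i * h3
  exact mul_left_cancel₀ (hYpos x0).ne' h4

/-- All together. -/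
theorem key (u : ℕ → Fin n) (K : ℕ) (h2 : ∀ i < K, T.a (u i) (u i) = -2 * T.w (u i))
    (hK : 0 < K)
    (hu : ∀ i < K, ∀ j < K, u i = u j → i = j)
    (y : ℕ → ℤ) (hy : ∀ i < K, 0 < y i)
    (s : ℕ → Finset ℕ) (hs : ∀ i < K, ∀ j ∈ s i, j < K ∧ j ≠ i)
    (h : ∀ i < K, 2 * y i ≤ ∑ j ∈ s i, N T (u i) (u j) * y j) :
    K = n ∧ (∀ x : Fin n, ∃ i < K, u i = x) ∧
    (∀ i < K, ∑ j ∈ s i, N T (u i) (u j) * y j = 2 * y i) ∧
    (∀ i < K, ∀ j < K, j ≠ i → j ∉ s i → N T (u i) (u j) = 0) ∧
    (∀ i < K, ∀ j < K, T.m (u i) * y j = T.m (u j) * y i) := by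
  obtain ⟨h3, h4, h5⟩ := key_zero u K h2 hu y hy s hs h
  have h6 := key_surj u K hK y hy h3
  refine ⟨?_, h6, h4, h5, key_prop u K hu h6 y hy h3⟩
  have hinj : Function.Injective (fun i : Fin K => u i.val) := by
    intro i j hij
    exact Fin.ext (hu i.val i.2 j.val j.2 hij)
  have hsurj : Function.Surjective (fun i : Fin K => u i.val) := by
    intro x
    obtain ⟨i, hi, hx⟩ := h6 x
    exact ⟨⟨i, hi⟩, hx⟩
  have := Fintype.card_of_bijective ⟨hinj, hsurj⟩
  simpa using this

end K379.Affine
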