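import Mathlib.RingTheory.AdjoinRoot
import Mathlib.RingTheory.LocalRing.ResidueField.Basic
import Mathlib.RingTheory.LocalRing.MaximalIdeal.Basic
import Mathlib.RingTheory.Ideal.GoingUp
import Mathlib.FieldTheory.Minpoly.Field
import Mathlib.FieldTheory.Separable
import Mathlib.FieldTheory.IsSepClosed
import Mathlib.FieldTheory.SeparableClosure
import Mathlib.RingTheory.DiscreteValuationRing.Basic
import Mathlib.RingTheory.DiscreteValuationRing.TFAE
import Mathlib.RingTheory.Polynomial.GaussLemma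
import Mathlib.RingTheory.Filtration
import Mathlib.RingTheory.Localization.FractionRing
import Mathlib.Order.Zorn
import Mathlib.Algebra.Polynomial.Eval.Irreducible

/-!
# Extensions of discrete valuation rings of ramification index one with prescribed algebraic
residue field, inside a separable closure
-/

set_option autoImplicit false

universe u v

namespace K379.DvrExt

open Polynomial IsLocalRing

/-- The monogenic extension given by a monic lift of the minimal polynomial. -/
theorem adjoinRoot_local {A : Type u} [CommRing A] [IsLocalRing A] {K : Type v} [Field K]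
    (σ : A →+* K) (σ' : ResidueField A →+* K) (hσ'c : σ'.comp (residue A) = σ)
    (hσ : RingHom.ker σ = maximalIdeal A) (α : K)
    (f : A[X]) (hfm : f.Monic)
    (hfp : letI := σ'.toAlgebra; f.map (residue A) = minpoly (ResidueField A) α)
    (hf0 : f.eval₂ σ α = 0) :
    ∃ _ : IsLocalRing (AdjoinRoot f),
      RingHom.ker (AdjoinRoot.lift σ α hf0) = maximalIdeal (AdjoinRoot f) ∧
      (maximalIdeal A).map (algebraMap A (AdjoinRoot f)) = maximalIdeal (AdjoinRoot f) := by
  letI := σ'.toAlgebra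
  have haev : ∀ g : A[X], g.eval₂ σ α = aeval α (g.map (residue A)) := by
    intro g
    rw [aeval_def, eval₂_map]
    change _ = eval₂ (σ'.comp (residue A)) α g
    rw [hσ'c]
  let τ : AdjoinRoot f →+* K := AdjoinRoot.lift σ α hf0
  have hfree : Module.Free A (AdjoinRoot f) := hfm.free_adjoinRoot
  have hfin : Module.Finite A (AdjoinRoot f) := hfm.finite_adjoinRoot
  have hker : RingHom.ker τ = (maximalIdeal A).map (algebraMap A (AdjoinRoot f)) := by
    apply le_antisymm
    · intro b hb
      rw [RingHom.mem_ker] at hb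
      obtain ⟨g, rfl⟩ := AdjoinRoot.mk_surjective (g := f) b
      have hb' : g.eval₂ σ α = 0 := by
        rw [← AdjoinRoot.lift_mk hf0 g]
        exact hb
      rw [haev] at hb'
      obtain ⟨q, hq⟩ := minpoly.dvd _ _ hb'
      obtain ⟨q', rfl⟩ := Polynomial.map_surjective (residue A) residue_surjective q
      have hz : (g - f * q').map (residue A) = 0 := by
        rw [Polynomial.map_sub, Polynomial.map_mul, hfp, hq]
        exact sub_self _
      have hmk : AdjoinRoot.mk f g = AdjoinRoot.mk f (g - f * q') := by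
        rw [map_sub, map_mul, AdjoinRoot.mk_self, zero_mul, sub_zero]
      rw [hmk]
      have hmem : g - f * q' ∈ (maximalIdeal A).map (C : A →+* A[X]) := by
        rw [Ideal.mem_map_C_iff]
        intro n
        have : (residue A) ((g - f * q').coeff n) = 0 := by
          rw [← coeff_map, hz, coeff_zero]
        exact (residue_eq_zero_iff _).1 this
      have h2 := Ideal.mem_map_of_mem (AdjoinRoot.mk f) hmem
      rw [Ideal.map_map] at h2
      exact h2
    · rw [Ideal.map_le_iff_le_comap]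
      intro a ha
      rw [Ideal.mem_comap, RingHom.mem_ker, AdjoinRoot.algebraMap_eq]
      change AdjoinRoot.lift σ α hf0 (AdjoinRoot.of f a) = 0
      rw [AdjoinRoot.lift_of, ← RingHom.mem_ker, hσ]
      exact ha
  have hprime : (RingHom.ker τ).IsPrime := RingHom.ker_isPrime τ
  have hτc : τ.comp (algebraMap A (AdjoinRoot f)) = σ := by
    ext a
    exact AdjoinRoot.lift_of hf0
  have hcomap : (RingHom.ker τ).comap (algebraMap A (AdjoinRoot f)) = maximalIdeal A := by
    rw [← hσ]
    ext a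
    rw [Ideal.mem_comap, RingHom.mem_ker, RingHom.mem_ker, ← RingHom.comp_apply, hτc]
  have hint : Algebra.IsIntegral A (AdjoinRoot f) := inferInstance
  have hmax : (RingHom.ker τ).IsMaximal := by
    apply Ideal.isMaximal_of_isIntegral_of_isMaximal_comap (R := A)
    rw [hcomap]
    infer_instance
  have huniq : ∀ n : Ideal (AdjoinRoot f), n.IsMaximal → n = RingHom.ker τ := by
    intro n hn
    have h1 : (n.comap (algebraMap A (AdjoinRoot f))).IsMaximal :=
      Ideal.isMaximal_comap_of_isIntegral_of_isMaximal (R := A) n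
    have h2 : n.comap (algebraMap A (AdjoinRoot f)) = maximalIdeal A := eq_maximalIdeal h1
    have h3 : RingHom.ker τ ≤ n := by
      rw [hker, Ideal.map_le_iff_le_comap, h2]
    exact (hmax.eq_of_le hn.ne_top h3).symm
  have hlocB : IsLocalRing (AdjoinRoot f) :=
    IsLocalRing.of_unique_max_ideal ⟨RingHom.ker τ, hmax, huniq⟩
  have hmB : RingHom.ker τ = maximalIdeal (AdjoinRoot f) := eq_maximalIdeal hmax
  exact ⟨hlocB, hmB, by rw [← hmB, hker]⟩

variable {A : Type u} [CommRing A]
variable {Ω k' : Type u} [Field Ω] [Field k'] (ι : A →+* Ω) (σ : A →+* k') (π : A)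

/-- Graphs of residue maps of intermediate discrete valuation rings. -/
structure Good (G : Subring (Ω × k')) : Prop where
  mem : ∀ a, (ι a, σ a) ∈ G
  inv : ∀ x b, (x, b) ∈ G → b ≠ 0 → x ≠ 0 ∧ (x⁻¹, b⁻¹) ∈ G
  fac : ∀ x b, (x, b) ∈ G → x ≠ 0 →
    ∃ (n : ℕ) (y : Ω) (c : k'), (y, c) ∈ G ∧ c ≠ 0 ∧ x = ι π ^ n * y

variable {ι σ π}

namespace Good

variable {G : Subring (Ω × k')} (hG : Good ι σ π G)

/-- The projection to `Ω`. -/
def pr₁ (G : Subring (Ω × k')) : G →+* Ω := (RingHom.fst Ω k').comp G.subtype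

/-- The projection to `k'`. -/
def pr₂ (G : Subring (Ω × k')) : G →+* k' := (RingHom.snd Ω k').comp G.subtype

include hG

theorem snd_eq_zero {b : k'} (h : (0, b) ∈ G) : b = 0 := by
  by_contra hb
  exact (hG.inv 0 b h hb).1 rfl

theorem pr₁_injective : Function.Injective (pr₁ G) := by
  rw [injective_iff_map_eq_zero]
  rintro ⟨⟨x, b⟩, h⟩ hx
  have hx' : x = 0 := hx
  subst hx'
  have := hG.snd_eq_zero h
  subst this
  rfl

theorem isDomain : IsDomain G := hG.pr₁_injective.isDomain (pr₁ G)

theorem isUnit_iff (g : G) : IsUnit g ↔ pr₂ G g ≠ 0 := by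
  constructor
  · intro h
    exact (h.map (pr₂ G)).ne_zero
  · intro h
    obtain ⟨⟨x, b⟩, hxb⟩ := g
    obtain ⟨h1, h2⟩ := hG.inv x b hxb h
    have hb : b ≠ 0 := h
    refine IsUnit.of_mul_eq_one ⟨(x⁻¹, b⁻¹), h2⟩ ?_
    apply Subtype.ext
    exact Prod.ext (mul_inv_cancel₀ h1) (mul_inv_cancel₀ hb)

omit hG in
/-- The uniformizer. -/
def unif (hG : Good ι σ π G) : G := ⟨(ι π, σ π), hG.mem π⟩

omit hG in
theorem pr₁_unif (hG : Good ι σ π G) : pr₁ G hG.unif = ι π := rfl

omit hG in
theorem pr₂_unif (hG : Good ι σ π G) : pr₂ G hG.unif = σ π := rfl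

theorem exists_fac (g : G) (hg : g ≠ 0) : ∃ (n : ℕ) (u : G), IsUnit u ∧ g = hG.unif ^ n * u := by
  obtain ⟨⟨x, b⟩, hxb⟩ := g
  have hx : x ≠ 0 := by
    intro h
    apply hg
    apply hG.pr₁_injective
    rw [map_zero]
    exact h
  obtain ⟨n, y, c, hyc, hc, h⟩ := hG.fac x b hxb hx
  refine ⟨n, ⟨(y, c), hyc⟩, (hG.isUnit_iff _).2 hc, ?_⟩
  apply hG.pr₁_injective
  rw [map_mul, map_pow]
  exact h

theorem isDVR (hι : Function.Injective ι) (hπ : π ≠ 0) (hσπ : σ π = 0) :
    ∃ _ : IsDomain G, IsDiscreteValuationRing G := by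
  have hdom := hG.isDomain
  refine ⟨hdom, ?_⟩
  have hu0 : hG.unif ≠ 0 := by
    intro h
    have h1 := congrArg (pr₁ G) h
    rw [hG.pr₁_unif, map_zero] at h1
    exact hπ ((injective_iff_map_eq_zero ι).1 hι _ h1)
  have hun : ¬ IsUnit hG.unif := by
    rw [hG.isUnit_iff, hG.pr₂_unif]
    exact fun h => h hσπ
  have hdiv : ∀ g : G, ¬ IsUnit g → hG.unif ∣ g := by
    intro g hg
    by_cases h0 : g = 0
    · rw [h0]; exact dvd_zero _
    obtain ⟨n, u, hu, h⟩ := hG.exists_fac g h0
    cases n with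
    | zero =>
      rw [pow_zero, one_mul] at h
      exact absurd (h ▸ hu) hg
    | succ n =>
      rw [h, pow_succ', mul_assoc]
      exact dvd_mul_right _ _
  apply IsDiscreteValuationRing.ofHasUnitMulPowIrreducibleFactorization
  refine ⟨hG.unif, ⟨hun, ?_⟩, ?_⟩
  · intro a b hab
    by_contra hcon
    push Not at hcon
    obtain ⟨a', rfl⟩ := hdiv a hcon.1
    obtain ⟨b', rfl⟩ := hdiv b hcon.2
    have h1 : hG.unif * (1 - hG.unif * (a' * b')) = 0 := by
      have : hG.unif * (1 - hG.unif * (a' * b')) =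
        hG.unif - hG.unif * a' * (hG.unif * b') := by ring
      rw [this, ← hab, sub_self]
    rcases mul_eq_zero.1 h1 with h2 | h2
    · exact hu0 h2
    · exact hun (IsUnit.of_mul_eq_one _ (sub_eq_zero.1 h2).symm)
  · intro x hx
    obtain ⟨n, u, hu, h⟩ := hG.exists_fac x hx
    obtain ⟨u, rfl⟩ := hu
    exact ⟨n, u, h.symm⟩

theorem dvd_of_not_isUnit (g : G) (hg : ¬ IsUnit g) : hG.unif ∣ g := by
  by_cases h0 : g = 0
  · rw [h0]; exact dvd_zero _
  obtain ⟨n, u, hu, h⟩ := hG.exists_fac g h0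
  cases n with
  | zero =>
    rw [pow_zero, one_mul] at h
    exact absurd (h ▸ hu) hg
  | succ n =>
    rw [h, pow_succ', mul_assoc]
    exact dvd_mul_right _ _

theorem ker_pr₂ [IsLocalRing G] : RingHom.ker (pr₂ G) = maximalIdeal G := by
  ext g
  rw [RingHom.mem_ker, mem_maximalIdeal, mem_nonunits_iff, hG.isUnit_iff, not_not]

set_option maxHeartbeats 1000000 in
/-- One step. -/
theorem step (hι : Function.Injective ι) (hπ : π ≠ 0) (hσπ : σ π = 0) [IsSepClosed Ω] (a : k')
    (ha : σ.IsIntegralElem a) (hna : ∀ x, (x, a) ∉ G) :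
    ∃ G' : Subring (Ω × k'), Good ι σ π G' ∧ G ≤ G' ∧ ∃ x, (x, a) ∈ G' := by
  obtain ⟨hdom, hdvr⟩ := hG.isDVR hι hπ hσπ
  set ϖ := hG.unif with hϖ
  -- the residue field of `G`
  have hloc : IsLocalHom (pr₂ G) := ⟨fun g hg => (hG.isUnit_iff g).2 hg.ne_zero⟩
  let σ' : ResidueField G →+* k' := ResidueField.lift (pr₂ G)
  have hσ'c : σ'.comp (residue G) = pr₂ G := by
    ext g
    exact ResidueField.lift_residue_apply (pr₂ G) g
  letI := σ'.toAlgebra
  have hak : IsIntegral (ResidueField G) a := by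
    obtain ⟨p, hp, hpe⟩ := ha
    let ψ : A →+* G := (ι.prod σ).codRestrict G (fun a => hG.mem a)
    refine ⟨p.map ((residue G).comp ψ), hp.map _, ?_⟩
    rw [eval₂_map]
    change eval₂ (σ'.comp ((residue G).comp ψ)) a p = 0
    rw [← RingHom.comp_assoc, hσ'c]
    exact hpe
  have hpm : (minpoly (ResidueField G) a).Monic := minpoly.monic hak
  have hdeg : 2 ≤ (minpoly (ResidueField G) a).natDegree := by
    by_contra hlt
    have h1 : (minpoly (ResidueField G) a).natDegree = 1 := by
      have := minpoly.natDegree_pos hak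
      omega
    rw [minpoly.natDegree_eq_one_iff] at h1
    obtain ⟨r, hr⟩ := h1
    obtain ⟨g, rfl⟩ := residue_surjective r
    refine hna (pr₁ G g) ?_
    have h2 : pr₂ G g = a := by
      rw [← hr, ← hσ'c]
      rfl
    rw [← h2]
    exact g.2
  obtain ⟨f, hfp, hfd, hfm, hf'⟩ : ∃ f : G[X], f.map (residue G) = minpoly (ResidueField G) a ∧
      f.natDegree = (minpoly (ResidueField G) a).natDegree ∧ f.Monic ∧ derivative f ≠ 0 := by
    obtain ⟨f, hfp, hfd, hfm⟩ := lifts_and_natDegree_eq_and_monic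
      (mem_lifts_of_surjective (f := residue G) residue_surjective
        (minpoly (ResidueField G) a)) hpm
    by_cases h : derivative f = 0
    · have hlt : (C ϖ * X : G[X]).natDegree < f.natDegree := by
        rw [hfd]
        exact lt_of_le_of_lt ((natDegree_C_mul_le _ _).trans natDegree_X_le) hdeg
      refine ⟨f + C ϖ * X, ?_, ?_, ?_, ?_⟩
      · have h3 : residue G ϖ = 0 := by
          rw [residue_eq_zero_iff, ← hG.ker_pr₂, RingHom.mem_ker, hϖ, hG.pr₂_unif, hσπ]
        rw [Polynomial.map_add, Polynomial.map_mul, map_C, h3, C_0, zero_mul, add_zero, hfp]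
      · rw [natDegree_add_eq_left_of_natDegree_lt hlt, hfd]
      · exact hfm.add_of_left (degree_lt_degree hlt)
      · rw [derivative_add, h, zero_add, derivative_C_mul, derivative_X, mul_one]
        intro h3
        rw [C_eq_zero] at h3
        have h1 := congrArg (pr₁ G) h3
        rw [hϖ, hG.pr₁_unif, map_zero] at h1
        exact hπ ((injective_iff_map_eq_zero ι).1 hι _ h1)
    · exact ⟨f, hfp, hfd, hfm, h⟩
  -- separability
  have hirr : Irreducible f := by
    apply Polynomial.Monic.irreducible_of_irreducible_map (residue G) f hfm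
    rw [hfp]
    exact minpoly.irreducible hak
  have hirrL : Irreducible (f.map (algebraMap G (FractionRing G))) :=
    (hfm.irreducible_iff_irreducible_map_fraction_map (K := FractionRing G)).1 hirr
  have hsepL : (f.map (algebraMap G (FractionRing G))).Separable := by
    rw [separable_iff_derivative_ne_zero hirrL, derivative_map]
    intro h
    rw [Polynomial.map_eq_zero_iff (IsFractionRing.injective G (FractionRing G))] at h
    exact hf' h
  let j : FractionRing G →+* Ω := IsFractionRing.lift (K := FractionRing G) hG.pr₁_injective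
  have hj : j.comp (algebraMap G (FractionRing G)) = pr₁ G := by
    ext g
    exact IsFractionRing.lift_algebraMap hG.pr₁_injective g
  have hsep : (f.map (pr₁ G)).Separable := by
    rw [← hj, ← Polynomial.map_map]
    exact hsepL.map
  obtain ⟨α, hα⟩ := IsSepClosed.exists_root (f.map (pr₁ G)) (by
    rw [degree_map_eq_of_injective hG.pr₁_injective]
    intro h
    have := natDegree_eq_of_degree_eq_some h
    change f.natDegree = 0 at this
    omega) hsep
  have hα' : f.eval₂ (pr₁ G) α = 0 := by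
    rw [← eval_map]
    exact hα
  have ha' : f.eval₂ (pr₂ G) a = 0 := by
    have h1 : f.eval₂ (pr₂ G) a = aeval a (f.map (residue G)) := by
      rw [aeval_def, eval₂_map]
      change _ = eval₂ (σ'.comp (residue G)) a f
      rw [hσ'c]
    rw [h1, hfp]
    exact minpoly.aeval _ _
  have hθ0 : f.eval₂ G.subtype (α, a) = 0 := by
    apply Prod.ext
    · have := hom_eval₂ f G.subtype (RingHom.fst Ω k') (α, a)
      change (RingHom.fst Ω k') (eval₂ G.subtype (α, a) f) = 0
      rw [this]
      exact hα'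
    · have := hom_eval₂ f G.subtype (RingHom.snd Ω k') (α, a)
      change (RingHom.snd Ω k') (eval₂ G.subtype (α, a) f) = 0
      rw [this]
      exact ha'
  let θ : AdjoinRoot f →+* Ω × k' := AdjoinRoot.lift G.subtype (α, a) hθ0
  have hθ2 : (RingHom.snd Ω k').comp θ = AdjoinRoot.lift (pr₂ G) a ha' := by
    apply AdjoinRoot.ringHom_ext
    · ext g
      simp only [RingHom.comp_apply, θ, AdjoinRoot.lift_of]
      rfl
    · simp only [RingHom.comp_apply, θ, AdjoinRoot.lift_root]
      rfl
  obtain ⟨hlocB, hB1, hB2⟩ := adjoinRoot_local (pr₂ G) σ' hσ'c hG.ker_pr₂ a f hfm hfp ha'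
  -- the new subring
  have hm : maximalIdeal G = Ideal.span {ϖ} := by
    apply le_antisymm
    · intro g hg
      rw [Ideal.mem_span_singleton]
      exact hG.dvd_of_not_isUnit g ((mem_maximalIdeal g).1 hg)
    · rw [Ideal.span_singleton_le_iff_mem, ← hG.ker_pr₂, RingHom.mem_ker, hϖ, hG.pr₂_unif, hσπ]
  have hmB : maximalIdeal (AdjoinRoot f) = Ideal.span {AdjoinRoot.of f ϖ} := by
    rw [← hB2, hm, Ideal.map_span, Set.image_singleton]
    rfl
  have hN : IsNoetherianRing (AdjoinRoot f) :=
    isNoetherianRing_of_surjective _ _ (AdjoinRoot.mk f) AdjoinRoot.mk_surjective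
  have hsnd : ∀ r, (θ r).2 = AdjoinRoot.lift (pr₂ G) a ha' r := fun r => by
    rw [← hθ2]; rfl
  have hof : ∀ g : G, θ (AdjoinRoot.of f g) = (g : Ω × k') := fun g => AdjoinRoot.lift_of hθ0
  refine ⟨θ.range, ⟨fun b => ⟨AdjoinRoot.of f ⟨_, hG.mem b⟩, hof _⟩, ?_, ?_⟩, ?_, ?_⟩
  · rintro x b ⟨r, hr⟩ hb
    have hr2 : AdjoinRoot.lift (pr₂ G) a ha' r = b := by
      rw [← hsnd, hr]
    have hrm : r ∉ maximalIdeal (AdjoinRoot f) := by
      rw [← hB1, RingHom.mem_ker, hr2]
      exact hb
    have hru : IsUnit r := by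
      by_contra h
      exact hrm ((mem_maximalIdeal r).2 h)
    obtain ⟨s, hs⟩ := hru.exists_right_inv
    have h1 : θ r * θ s = 1 := by rw [← map_mul, hs, map_one]
    rw [hr] at h1
    have h1a : x * (θ s).1 = 1 := congrArg Prod.fst h1
    have h1b : b * (θ s).2 = 1 := congrArg Prod.snd h1
    have hx : x ≠ 0 := left_ne_zero_of_mul_eq_one h1a
    refine ⟨hx, s, ?_⟩
    exact Prod.ext (eq_inv_of_mul_eq_one_right h1a) (eq_inv_of_mul_eq_one_right h1b)
  · rintro x b ⟨r, hr⟩ hx
    have hr0 : r ≠ 0 := by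
      rintro rfl
      rw [map_zero] at hr
      exact hx (congrArg Prod.fst hr).symm
    have hkrull := Ideal.iInf_pow_eq_bot_of_isLocalRing (maximalIdeal (AdjoinRoot f))
      (Ideal.IsPrime.ne_top inferInstance)
    have hex : ∃ n, r ∉ maximalIdeal (AdjoinRoot f) ^ n := by
      by_contra hcon
      push Not at hcon
      have : r ∈ ⨅ n, maximalIdeal (AdjoinRoot f) ^ n := by
        rw [Ideal.mem_iInf]
        exact hcon
      rw [hkrull] at this
      exact hr0 this
    classical
    obtain ⟨k, hk⟩ : ∃ k, Nat.find hex = k + 1 := by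
      refine Nat.exists_eq_succ_of_ne_zero fun h => ?_
      have := Nat.find_spec hex
      rw [h, pow_zero, Ideal.one_eq_top] at this
      exact this Submodule.mem_top
    have hk1 : r ∈ maximalIdeal (AdjoinRoot f) ^ k := by
      by_contra h
      have := Nat.find_min' hex h
      omega
    have hk2 : r ∉ maximalIdeal (AdjoinRoot f) ^ (k + 1) := hk ▸ Nat.find_spec hex
    rw [hmB, Ideal.span_singleton_pow, Ideal.mem_span_singleton] at hk1 hk2
    obtain ⟨s, hs⟩ := hk1
    have hs2 : (θ s).2 ≠ 0 := by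
      intro h
      rw [hsnd, ← RingHom.mem_ker, hB1, hmB, Ideal.mem_span_singleton] at h
      obtain ⟨s', rfl⟩ := h
      apply hk2
      rw [hs, pow_succ]
      exact mul_dvd_mul_left _ ⟨s', rfl⟩
    refine ⟨k, (θ s).1, (θ s).2, ⟨s, rfl⟩, hs2, ?_⟩
    have h3 : θ r = (ϖ : Ω × k') ^ k * θ s := by
      rw [hs, map_mul, map_pow, hof]
    rw [hr] at h3
    have h4 := congrArg Prod.fst h3
    rw [Prod.fst_mul, Prod.pow_fst] at h4
    exact h4
  · intro g hg
    exact ⟨AdjoinRoot.of f ⟨g, hg⟩, hof _⟩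
  · exact ⟨α, AdjoinRoot.root f, AdjoinRoot.lift_root hθ0⟩

end Good

/-- Existence of a maximal graph, whose residue map is surjective. -/
theorem exists_good [IsDomain A] [IsDiscreteValuationRing A] [IsSepClosed Ω]
    (hι : Function.Injective ι) (hσ : RingHom.ker σ = maximalIdeal A) (hπ : Irreducible π)
    (hint : ∀ a : k', σ.IsIntegralElem a) :
    ∃ G : Subring (Ω × k'), Good ι σ π G ∧ ∀ a : k', ∃ x, (x, a) ∈ G := by
  have hσπ : σ π = 0 := by
    rw [← RingHom.mem_ker, hσ, mem_maximalIdeal]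
    exact hπ.not_isUnit
  -- the initial graph
  have h0 : Good ι σ π (ι.prod σ).range := by
    refine ⟨fun a => ⟨a, rfl⟩, ?_, ?_⟩
    · rintro x b ⟨a, ha⟩ hb
      have ha1 : ι a = x := congrArg Prod.fst ha
      have ha2 : σ a = b := congrArg Prod.snd ha
      have hu : IsUnit a := by
        by_contra h
        have : a ∈ RingHom.ker σ := by rw [hσ]; exact h
        rw [RingHom.mem_ker, ha2] at this
        exact hb this
      obtain ⟨s, hs⟩ := hu.exists_right_inv
      have h1 : x * ι s = 1 := by rw [← ha1, ← map_mul, hs, map_one]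
      have h2 : b * σ s = 1 := by rw [← ha2, ← map_mul, hs, map_one]
      exact ⟨left_ne_zero_of_mul_eq_one h1, s,
        Prod.ext (eq_inv_of_mul_eq_one_right h1) (eq_inv_of_mul_eq_one_right h2)⟩
    · rintro x b ⟨a, ha⟩ hx
      have ha1 : ι a = x := congrArg Prod.fst ha
      have ha0 : a ≠ 0 := by
        rintro rfl
        rw [map_zero] at ha1
        exact hx ha1.symm
      obtain ⟨n, u, hu⟩ := IsDiscreteValuationRing.eq_unit_mul_pow_irreducible ha0 hπ
      refine ⟨n, ι u, σ u, ⟨u, rfl⟩, (u.isUnit.map σ).ne_zero, ?_⟩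
      rw [← ha1, hu, map_mul, map_pow, mul_comm]
  obtain ⟨G, -, hG⟩ := zorn_le_nonempty₀ {G : Subring (Ω × k') | Good ι σ π G} (by
    intro c hc hchain G₀ hG₀
    have hne : c.Nonempty := ⟨G₀, hG₀⟩
    have hdir : DirectedOn (· ≤ ·) c := hchain.directedOn
    refine ⟨sSup c, ⟨?_, ?_, ?_⟩, fun G hG => le_sSup hG⟩
    · intro a
      exact (Subring.mem_sSup_of_directedOn hne hdir).2 ⟨G₀, hG₀, (hc hG₀).mem a⟩
    · intro x b h hb
      obtain ⟨G, hG, h⟩ := (Subring.mem_sSup_of_directedOn hne hdir).1 h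
      obtain ⟨h1, h2⟩ := (hc hG).inv x b h hb
      exact ⟨h1, (Subring.mem_sSup_of_directedOn hne hdir).2 ⟨G, hG, h2⟩⟩
    · intro x b h hx
      obtain ⟨G, hG, h⟩ := (Subring.mem_sSup_of_directedOn hne hdir).1 h
      obtain ⟨n, y, c', h1, h2⟩ := (hc hG).fac x b h hx
      exact ⟨n, y, c', (Subring.mem_sSup_of_directedOn hne hdir).2 ⟨G, hG, h1⟩, h2⟩)
    (ι.prod σ).range h0
  have hGg : Good ι σ π G := hG.prop
  refine ⟨G, hGg, fun a => ?_⟩
  by_contra hna
  push Not at hna
  obtain ⟨G', hG', hle, x, hx⟩ := hGg.step hι hπ.ne_zero hσπ a (hint a) hna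
  exact hna x (hG.le_of_ge hG' hle hx)

end K379.DvrExt
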