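import Mathlib.RingTheory.DiscreteValuationRing.Basic
import Mathlib.RingTheory.DiscreteValuationRing.TFAE
import Mathlib.RingTheory.Valuation.ValuationRing

/-!
# Divisibility-closed subrings of a discrete valuation ring
-/

set_option autoImplicit false

universe u v

namespace K379.DvrInter

variable {B : Type u} [CommRing B] [IsDomain B] [IsDiscreteValuationRing B]
  {S : Type v} [CommRing S]

/-- A subring `S` of a discrete valuation ring `B` for which divisibility in `S` is detected in `B` is a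
discrete valuation ring, if it contains a non-zero non-unit of `B`. -/
theorem isDiscreteValuationRing [IsDomain S] (φ : S →+* B) (hφ : Function.Injective φ)
    (hdiv : ∀ x y : S, y ≠ 0 → φ y ∣ φ x → y ∣ x) (hne : ∃ x : S, x ≠ 0 ∧ ¬ IsUnit (φ x)) :
    IsDiscreteValuationRing S := by
  have hz : ∀ x : S, φ x = 0 ↔ x = 0 := fun x => map_eq_zero_iff φ hφ
  have hunit : ∀ x : S, IsUnit (φ x) → IsUnit x := by
    intro x hx
    have hx0 : x ≠ 0 := by
      rintro rfl
      rw [map_zero] at hx
      exact not_isUnit_zero hx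
    refine isUnit_of_dvd_one (hdiv 1 x hx0 ?_)
    rw [map_one]
    exact hx.dvd
  -- a non-unit with minimal image
  let T : Set B := {b | ∃ x : S, x ≠ 0 ∧ ¬ IsUnit (φ x) ∧ φ x = b}
  have hT : T.Nonempty := by
    obtain ⟨x, hx, hx'⟩ := hne
    exact ⟨φ x, x, hx, hx', rfl⟩
  have hwf : WellFounded (DvdNotUnit (α := B)) := wellFounded_dvdNotUnit
  obtain ⟨p, hp0, hpu, hp⟩ := hwf.min_mem T hT
  have hmin : ∀ x : S, x ≠ 0 → ¬ IsUnit (φ x) → φ p ∣ φ x := by
    intro x hx hxu
    rcases ValuationRing.dvd_total (φ p) (φ x) with h | h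
    · exact h
    · have h1 : ¬ DvdNotUnit (φ x) (φ p) := by
        rw [hp]
        exact hwf.not_lt_min T ⟨x, hx, hxu, rfl⟩
      obtain ⟨c, hc⟩ := h
      have hcu : IsUnit c := by
        by_contra hcu
        exact h1 ⟨fun h0 => hx ((hz x).1 h0), c, hcu, hc⟩
      obtain ⟨u, rfl⟩ := hcu
      refine ⟨↑u⁻¹, ?_⟩
      rw [hc, mul_assoc, Units.mul_inv, mul_one]
  have hpirr : Irreducible p := by
    refine ⟨fun h => hpu (h.map φ), fun a b hab => ?_⟩
    by_contra hcon
    push Not at hcon
    obtain ⟨ha, hb⟩ := hcon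
    have ha0 : a ≠ 0 := by rintro rfl; exact hp0 (by rw [hab, zero_mul])
    have hpa := hmin a ha0 (fun h => ha (hunit a h))
    obtain ⟨c, hc⟩ := hdiv a p hp0 hpa
    apply hb
    have h1 : a * (b * c) = a * 1 := by rw [← mul_assoc, ← hab, ← hc, mul_one]
    have h2 : b * c = 1 := mul_left_cancel₀ ha0 h1
    exact IsUnit.of_mul_eq_one c h2
  refine IsDiscreteValuationRing.ofHasUnitMulPowIrreducibleFactorization ⟨p, hpirr, ?_⟩
  have key : ∀ b : B, ∀ x : S, φ x = b → x ≠ 0 → ∃ n : ℕ, Associated (p ^ n) x := by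
    intro b
    induction b using hwf.induction with
    | _ b ih =>
      rintro x rfl hx
      by_cases hxu : IsUnit (φ x)
      · refine ⟨0, ?_⟩
        rw [pow_zero]
        exact (associated_one_iff_isUnit.2 (hunit x hxu)).symm
      · obtain ⟨y, rfl⟩ := hdiv x p hp0 (hmin x hx hxu)
        have hy0 : y ≠ 0 := right_ne_zero_of_mul hx
        obtain ⟨n, hn⟩ := ih (φ y) ⟨fun h0 => hy0 ((hz y).1 h0), φ p, hpu, by
          rw [map_mul, mul_comm]⟩ y rfl hy0
        refine ⟨n + 1, ?_⟩
        rw [pow_succ, mul_comm]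
        exact hn.mul_left p
  intro x hx
  exact key (φ x) x rfl hx

end K379.DvrInter
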