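import Groth.Prelude.Def_Canon
import Groth.Agent.CohqB.HSeqMod
import Groth.Agent.CurvesB.HZero
import Groth.Agent.Dcoh.FinLocFree
import Groth.Agent.Ega3B.InjMod
import Groth.Agent.Etcore.Yext
import Groth.Agent.S0453
import Groth.Agent.S0485

/-!
# Classes in `H¹(X, M)` are classes of extensions of `O_X` by `M`
-/

set_option autoImplicit false
universe u
open CategoryTheory CategoryTheory.Limits AlgebraicGeometry Opposite TopologicalSpace

namespace K379.ExtOne

open Groth.Agent Groth.Agent.CohqB.HSeqMod Groth.Agent.CurvesB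

variable {X : Scheme.{u}}

/-- The class `1` in `H⁰(X, O_X)`. -/
noncomputable def one (X : Scheme.{u}) : Coh.HH X (Coh.structureModule X) 0 :=
  (HZero.equivO X).symm 1

theorem subsingleton_of_injective (I : X.Modules) [Injective I] (n : ℕ) :
    Subsingleton (Coh.HH X I (n + 1)) := by
  have := Ega3B.InjMod.isFlasque_of_injective I
  exact S0453.result (X := (X : TopCat.{u})) (Coh.toAb I) n

/-- A morphism `O_X ⟶ M` with a given section as image of `1`. -/
theorem exists_hom (M : X.Modules) (q : Coh.HH X M 0) :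
    ∃ φ : Coh.structureModule X ⟶ M, hmap φ 0 (one X) = q := by
  obtain ⟨φ, hφ⟩ := (Dcoh.FinLocFree.unitEquiv M).surjective (HZero.equivAdd M q)
  refine ⟨φ, (HZero.equivAdd M).injective ?_⟩
  rw [← hφ]
  refine (HZero.equivAdd_map φ (one X)).trans ?_
  have h : HZero.equivAdd (Coh.structureModule X) (one X) = (1 : Γ(X, ⊤)) :=
    (HZero.equivO X).apply_symm_apply 1
  rw [h]
  rfl

/-- Every class in `H¹(X, M)` is the image of `1` under the boundary map of an extension of `O_X` by `M`. -/
theorem exists_extension (M : X.Modules) (c : Coh.HH X M 1) :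
    ∃ (E : X.Modules) (i : M ⟶ E) (p : E ⟶ Coh.structureModule X) (w : i ≫ p = 0)
      (h : (ShortComplex.mk i p w).ShortExact), δ h 0 (one X) = c := by
  have : EnoughInjectives X.Modules := S0485.result _ X.ringCatSheaf
  let I : InjectivePresentation M := Classical.arbitrary _
  have hI : Injective I.J := I.injective
  have hT : (ShortComplex.mk I.f (cokernel.π I.f) (cokernel.condition I.f)).ShortExact :=
    { exact := ShortComplex.exact_cokernel I.f }
  have := subsingleton_of_injective I.J 0
  obtain ⟨q, hq⟩ := exact₁ hT 0 c (Subsingleton.elim (α := Coh.HH X I.J 1) _ _)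
  obtain ⟨φ, hφ⟩ := exists_hom _ q
  obtain ⟨w', hS⟩ := Etcore.Yext.shortExact_pullback hT φ
  refine ⟨_, _, _, w', hS, ?_⟩
  let f : (ShortComplex.mk (pullback.lift 0 I.f (by rw [zero_comp, cokernel.condition]))
      (pullback.fst φ (cokernel.π I.f)) w') ⟶ ShortComplex.mk I.f (cokernel.π I.f) (cokernel.condition I.f) :=
    { τ₁ := 𝟙 M
      τ₂ := pullback.snd φ (cokernel.π I.f)
      τ₃ := φ
      comm₁₂ := by
        change 𝟙 M ≫ I.f = pullback.lift 0 I.f _ ≫ pullback.snd φ (cokernel.π I.f)
        rw [Category.id_comp, pullback.lift_snd]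
      comm₂₃ := pullback.condition.symm }
  have h3 := δ_naturality hS hT f 0 (one X)
  have h4 : hmap f.τ₁ (0 + 1) (δ hS 0 (one X)) = δ hS 0 (one X) := hmap_id_apply _ _
  rw [h4] at h3
  rw [← h3, ← hq, ← hφ]

end K379.ExtOne
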