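import Groth.Prelude.Def_FGA
import Groth.Agent.S4815
import Groth.Agent.S4818
import Groth.Agent.Etrest.ProLim
import Groth.Agent.Ega3B.ProjProper

/-!
# Closed subschemes of projective space over a cofiltered limit of schemes descend to a stage
-/

set_option autoImplicit false
universe u
open CategoryTheory CategoryTheory.Limits AlgebraicGeometry Opposite

namespace K379.ProjDesc

open Groth.Agent

variable {n : ℕ} {R T S : Scheme.{u}}

/-- `P^n_S ⟶ P^n_ℤ` -/
noncomputable abbrev toPZ (n : ℕ) (S : Scheme.{u}) :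
    CohB1.ProjSpaceOver n S ⟶ CohB1.ProjSpace n (ULift.{u} ℤ) :=
  pullback.fst (CohB1.ProjSpace.toSpec n (ULift.{u} ℤ)) (specULiftZIsTerminal.from S)

set_option backward.isDefEq.respectTransparency false in
theorem projMap_toPZ (φ : T ⟶ S) : FGA.projMap n φ ≫ toPZ n S = toPZ n T := by
  simp [FGA.projMap, toPZ]

set_option backward.isDefEq.respectTransparency false in
theorem projMap_toBase (φ : T ⟶ S) :
    FGA.projMap n φ ≫ CohB1.ProjSpaceOver.toBase n S = CohB1.ProjSpaceOver.toBase n T ≫ φ := by
  simp [FGA.projMap, CohB1.ProjSpaceOver.toBase]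

theorem isPullback_toBase (n : ℕ) (S : Scheme.{u}) :
    IsPullback (toPZ n S) (CohB1.ProjSpaceOver.toBase n S)
      (CohB1.ProjSpace.toSpec n (ULift.{u} ℤ)) (specULiftZIsTerminal.from S) :=
  IsPullback.of_hasPullback _ _

theorem isPullback_projMap (φ : T ⟶ S) :
    IsPullback (FGA.projMap n φ) (CohB1.ProjSpaceOver.toBase n T) (CohB1.ProjSpaceOver.toBase n S) φ := by
  have h2 : IsPullback (FGA.projMap n φ ≫ toPZ n S) (CohB1.ProjSpaceOver.toBase n T)
      (CohB1.ProjSpace.toSpec n (ULift.{u} ℤ)) (φ ≫ specULiftZIsTerminal.from S) := by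
    rw [projMap_toPZ, specULiftZIsTerminal.hom_ext (φ ≫ specULiftZIsTerminal.from S)
      (specULiftZIsTerminal.from T)]
    exact IsPullback.of_hasPullback _ _
  exact IsPullback.of_right h2 (projMap_toBase φ) (isPullback_toBase n S)

/-- Projective space as a functor of the base. -/
noncomputable def PF (n : ℕ) : Scheme.{u} ⥤ Scheme.{u} where
  obj S := CohB1.ProjSpaceOver n S
  map φ := FGA.projMap n φ
  map_id S := by
    apply (isPullback_toBase n S).hom_ext
    · rw [projMap_toPZ, Category.id_comp]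
    · rw [projMap_toBase, Category.id_comp, Category.comp_id]
  map_comp ψ φ := by
    apply (isPullback_toBase n _).hom_ext
    · rw [Category.assoc, projMap_toPZ, projMap_toPZ, projMap_toPZ]
    · rw [Category.assoc, projMap_toBase, projMap_toBase, ← Category.assoc, ← Category.assoc,
        projMap_toBase]

/-- The structure maps as a natural transformation. -/
noncomputable def PFtoBase (n : ℕ) : PF.{u} n ⟶ 𝟭 Scheme.{u} where
  app S := CohB1.ProjSpaceOver.toBase n S
  naturality _ _ φ := projMap_toBase φ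

/-- A closed subscheme of projective space over a cofiltered limit descends. -/
theorem exists_proj_descend {J : Type u} [SmallCategory J] [IsCofiltered J] (D : J ⥤ Scheme.{u})
    (c : Cone D) (hc : IsLimit c) [∀ (i j : J) (f : i ⟶ j), IsAffineHom (D.map f)]
    [∀ i, CompactSpace (D.obj i)] [∀ i, QuasiSeparatedSpace (D.obj i)] [IsLocallyNoetherian c.pt]
    (n : ℕ) {X : Scheme.{u}} (i : X ⟶ CohB1.ProjSpaceOver n c.pt) [IsClosedImmersion i] :
    ∃ (j : J) (X' : Scheme.{u}) (i' : X' ⟶ CohB1.ProjSpaceOver n (D.obj j)) (q : X ⟶ X'),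
      IsClosedImmersion i' ∧ IsPullback q (i ≫ CohB1.ProjSpaceOver.toBase n c.pt)
        (i' ≫ CohB1.ProjSpaceOver.toBase n (D.obj j)) (c.π.app j) := by
  have hpr : ∀ S : Scheme.{u}, IsProper (CohB1.ProjSpaceOver.toBase n S) := fun S =>
    MorphismProperty.of_isPullback (P := @IsProper) (isPullback_toBase n S)
      (Ega3B.ProjProper.isProper_toSpec n (ULift.{u} ℤ))
  let E : J ⥤ Scheme.{u} := D ⋙ PF n
  let α : E ⟶ D := Functor.whiskerLeft D (PFtoBase n) ≫ (Functor.rightUnitor D).hom
  let e : Cone E := (PF n).mapCone c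
  have : IsConnected J := IsCofiltered.isConnected J
  obtain ⟨he⟩ := Etrest.ProLim.isLimit_of_isPullback α c hc e (CohB1.ProjSpaceOver.toBase n c.pt) (by
    intro j
    have h := isPullback_projMap (n := n) (c.π.app j)
    have h2 : α.app j = CohB1.ProjSpaceOver.toBase n (D.obj j) := by
      change CohB1.ProjSpaceOver.toBase n (D.obj j) ≫ 𝟙 _ = _
      rw [Category.comp_id]
    rw [h2]
    exact h)
  have hE : ∀ (a b : J) (f : a ⟶ b), IsAffineHom (E.map f) := fun a b f =>
    MorphismProperty.of_isPullback (P := @IsAffineHom) (isPullback_projMap (n := n) (D.map f)).flip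
      inferInstance
  obtain ⟨j₀⟩ : Nonempty J := inferInstance
  have hcE : ∀ j, CompactSpace (E.obj j) := fun j => by
    have := hpr (D.obj j)
    have h : CompactSpace (CohB1.ProjSpaceOver n (D.obj j)) :=
      QuasiCompact.compactSpace_of_compactSpace (CohB1.ProjSpaceOver.toBase n (D.obj j))
    exact h
  have hqE : ∀ j, QuasiSeparatedSpace (E.obj j) := fun j => by
    have := hpr (D.obj j)
    have h : QuasiSeparatedSpace (CohB1.ProjSpaceOver n (D.obj j)) :=
      quasiSeparatedSpace_of_quasiSeparated (CohB1.ProjSpaceOver.toBase n (D.obj j))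
    exact h
  have hLN : IsLocallyNoetherian (CohB1.ProjSpaceOver n c.pt) := by
    have := hpr c.pt
    exact LocallyOfFiniteType.isLocallyNoetherian (CohB1.ProjSpaceOver.toBase n c.pt)
  let i₁ : X ⟶ e.pt := i
  have hi₁ : IsClosedImmersion i₁ := inferInstanceAs (IsClosedImmersion i)
  have hLN' : IsLocallyNoetherian e.pt := hLN
  have hfp : LocallyOfFinitePresentation i₁ := inferInstance
  obtain ⟨j, -, Zj, ιj, q, hι1, hι2, hι3, hpb⟩ := S4815.result E e he j₀ i₁
  have hcl : IsClosedImmersion (pullback.snd ιj (e.π.app j)) := by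
    rw [← hpb.isoPullback_inv_snd]
    infer_instance
  obtain ⟨k, φ, hk⟩ := (S4818.result E e he j ιj).1 hcl
  -- the model over the stage `k`
  have hw : e.π.app k ≫ E.map φ = e.π.app j := e.w φ
  have hq1 : q ≫ ιj = (i₁ ≫ e.π.app k) ≫ E.map φ := by rw [Category.assoc, hw, hpb.w]
  let q' : X ⟶ pullback ιj (E.map φ) := pullback.lift q (i₁ ≫ e.π.app k) hq1
  have hbig : IsPullback (q' ≫ pullback.fst ιj (E.map φ)) i₁ ιj (e.π.app k ≫ E.map φ) := by
    rw [hw]
    have : q' ≫ pullback.fst ιj (E.map φ) = q := pullback.lift_fst _ _ _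
    rw [this]
    exact hpb
  have hsq : IsPullback q' i₁ (pullback.snd ιj (E.map φ)) (e.π.app k) :=
    IsPullback.of_right hbig (pullback.lift_snd _ _ _) (IsPullback.of_hasPullback ιj (E.map φ))
  refine ⟨k, pullback ιj (E.map φ), pullback.snd ιj (E.map φ), q', hk, ?_⟩
  exact hsq.paste_vert (isPullback_projMap (n := n) (c.π.app k))

end K379.ProjDesc
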