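import Groth.Agent.Models.K379.ExtOne
import Groth.Agent.Canon.K769.Basic
import Groth.Agent.PerfA.QCohExt
import Groth.Agent.PerfA.QCohSerre
import Groth.Agent.Sga2.PnHHDelta

/-!
# The trace of a `1`-dualizing pair is injective when `H¹(X, O_X)` is free
-/

set_option autoImplicit false
universe u
open CategoryTheory CategoryTheory.Limits AlgebraicGeometry Opposite TopologicalSpace

namespace K379.RDualTrace

open Groth.Agent Groth.Agent.CohqB.HSeqMod Groth.Agent.CurvesB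

theorem exists_form {R A B C : Type*} [CommRing R] [AddCommGroup A] [Module R A] [AddCommGroup B]
    [Module R B] [AddCommGroup C] [Module R C] (g : A →ₗ[R] B) (P : B →ₗ[R] C)
    (hex : ∀ b, P b = 0 → ∃ a, g a = b) (hPg : ∀ a, P (g a) = 0)
    [Module.Projective R (LinearMap.range P)] (f : A →ₗ[R] R) (hf : ∀ a, g a = 0 → f a = 0) :
    ∃ ψ : B →ₗ[R] R, ψ ∘ₗ g = f := by
  obtain ⟨s, hs⟩ := Module.projective_lifting_property P.rangeRestrict
    (LinearMap.id (M := LinearMap.range P)) P.surjective_rangeRestrict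
  let f' : (LinearMap.range g) →ₗ[R] R :=
    (Submodule.liftQ (LinearMap.ker g) f (fun a ha => hf a ha)) ∘ₗ
      g.quotKerEquivRange.symm.toLinearMap
  have hf' : ∀ a, f' ⟨g a, ⟨a, rfl⟩⟩ = f a := by
    intro a
    have h1 : g.quotKerEquivRange.symm ⟨g a, ⟨a, rfl⟩⟩ = Submodule.Quotient.mk a := by
      rw [LinearEquiv.symm_apply_eq]
      rfl
    change (Submodule.liftQ (LinearMap.ker g) f (fun a ha => hf a ha))
      (g.quotKerEquivRange.symm ⟨g a, ⟨a, rfl⟩⟩) = f a
    rw [h1]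
    rfl
  let r₀ : B →ₗ[R] B := LinearMap.id - s ∘ₗ P.rangeRestrict
  have hr₀ : ∀ b, r₀ b ∈ LinearMap.range g := by
    intro b
    apply hex
    change P (b - s (P.rangeRestrict b)) = 0
    have h2 : P (s (P.rangeRestrict b)) = P b :=
      congrArg Subtype.val (LinearMap.congr_fun hs (P.rangeRestrict b))
    rw [map_sub, h2, sub_self]
  let r : B →ₗ[R] LinearMap.range g := r₀.codRestrict _ hr₀
  refine ⟨f' ∘ₗ r, LinearMap.ext fun a => ?_⟩
  have h3 : r (g a) = ⟨g a, ⟨a, rfl⟩⟩ := by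
    apply Subtype.ext
    change g a - s (P.rangeRestrict (g a)) = g a
    have h4 : P.rangeRestrict (g a) = 0 := Subtype.ext (hPg a)
    rw [h4, map_zero, sub_zero]
  change f' (r (g a)) = f a
  rw [h3, hf']

variable {R : Type u} [CommRing R] {X : Scheme.{u}} [X.Over (Spec (CommRingCat.of R))]

theorem eq_zero_of_tr_eq_zero {ω : X.Modules} {tr : Coh.HH X ω 1 →ₗ[R] R}
    (hω : Canon.IsRDualOver R X 1 ω tr)
    (hproj : ∀ N : Submodule R (Coh.HH X (Coh.structureModule X) 1), Module.Projective R N)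
    (h0 : ∀ x : Coh.HH X (Coh.structureModule X) 0, ∃ r : R, x = r • ExtOne.one X)
    (c : Coh.HH X ω 1) (hc : tr c = 0) : c = 0 := by
  obtain ⟨E, i, p, w, h, hδ⟩ := ExtOne.exists_extension ω c
  have hE : Coh.IsQCoh E := PerfA.QCohExt.isQCoh_ext h hω.1 (PerfA.QCohSerre.isQCoh_unit X)
  have hker : ∀ x : Coh.HH X ω 1, Canon.HHlin R i 1 x = 0 → tr x = 0 := by
    intro x hx
    obtain ⟨y, hy⟩ := exact₁ h 0 x hx
    obtain ⟨r, rfl⟩ := h0 y
    have h5 : x = r • c := by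
      rw [← hy, ← hδ]
      exact Sga2.PnHHDelta.δ_smulΓ h 0 _ _
    rw [h5, map_smul, hc, smul_zero]
  have hPg : ∀ a, Canon.HHlin R p 1 (Canon.HHlin R i 1 a) = 0 := by
    intro a
    change hmap p 1 (hmap i 1 a) = 0
    rw [← hmap_comp_apply, w, hmap_zero_apply]
  have := hproj (LinearMap.range (Canon.HHlin R p 1))
  obtain ⟨ψ, hψ⟩ := exists_form (Canon.HHlin R i 1) (Canon.HHlin R p 1) (fun b hb => exact₂ h 1 b hb)
    hPg tr hker
  obtain ⟨ρ, hρ⟩ := K769.Basic.exists_hom hω hE ψ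
  have h6 : i ≫ ρ = 𝟙 ω := by
    apply K769.Basic.hom_ext hω hω.1
    rw [K769.Basic.HHlin_comp, ← LinearMap.comp_assoc, hρ, hψ, K769.Basic.HHlin_id, LinearMap.comp_id]
  have h7 : hmap (i ≫ ρ) 1 c = c := by rw [h6]; exact hmap_id_apply _ _
  have h8 : hmap i 1 c = 0 := by
    rw [← hδ]
    exact Sga2.PnHHDelta.hmap_δ h 0 _
  rw [← h7, hmap_comp_apply, h8, map_zero]

end K379.RDualTrace
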