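import Groth.Prelude.Def_Models
import Groth.Agent.Models.K379.RDualTrace
import Groth.Agent.S0034
import Groth.Agent.S4334
import Groth.Agent.S0014
import Groth.Agent.S0002
import Groth.Agent.Sga67.CohLoc
import Groth.Agent.Models.DVRGeneric2
import Groth.Agent.CurvesC.DualInvNonvan
import Groth.Agent.VarietyA.GlobalSections
import Groth.Agent.Flat2B.SmoothGeom
import Groth.Agent.Pi1.H382.Trait

/-!
# Proper models of curves: global functions, and a coherent module with non-torsion `H¹`
-/

set_option autoImplicit false
universe u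
open CategoryTheory CategoryTheory.Limits AlgebraicGeometry Opposite TopologicalSpace

namespace K379.RDualCurve

open Groth.Agent Groth.Agent.CohqB.HSeqMod Groth.Agent.CurvesB

/-- The structure map of a proper smooth geometrically connected scheme over a field is bijective on
global functions. -/
theorem isIso_appTop_of_field (K : Type u) [Field K] {C : Scheme.{u}} (f : C ⟶ Spec (CommRingCat.of K))
    [Smooth f] [IsProper f] [GeometricallyConnected f] : IsIso f.appTop := by
  have := Flat2B.SmoothGeom.geometricallyReduced_of_smooth f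
  let _ : Algebra K Γ(C, ⊤) := (VarietyA.GlobalSections.gl f).hom.toAlgebra
  have h1 : Module.finrank K Γ(C, ⊤) = 1 := VarietyA.GlobalSections.finrank_global K C f
  have h2 : Function.Bijective (algebraMap K Γ(C, ⊤)) :=
    Algebra.finrank_eq_one_iff_bijective_algebraMap.mp h1
  let e1 := (Scheme.ΓSpecIso (CommRingCat.of K))
  have h3 : (e1.inv ≫ f.appTop).hom ∘ e1.hom.hom = f.appTop := by
    funext x
    change (e1.hom ≫ e1.inv ≫ f.appTop).hom x = _
    simp
  rw [ConcreteCategory.isIso_iff_bijective, ← h3]
  exact h2.comp e1.commRingCatIsoToRingEquiv.bijective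

variable {R : Type u} [CommRing R]

theorem toGlobal_bijective {X : Scheme.{u}} (p : X ⟶ Spec (CommRingCat.of R)) (h : IsIso p.appTop) :
    Function.Bijective (Coh.toGlobal p) := by
  have h1 : Function.Bijective p.appTop.hom := (ConcreteCategory.isIso_iff_bijective p.appTop).1 h
  have h3 : Function.Bijective (Scheme.ΓSpecIso (CommRingCat.of R)).inv.hom :=
    ConcreteCategory.bijective_of_isIso (Scheme.ΓSpecIso (CommRingCat.of R)).inv
  exact h1.comp h3

theorem smul_one_bijective {X : Scheme.{u}} [X.Over (Spec (CommRingCat.of R))]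
    (h : IsIso (X ↘ Spec (CommRingCat.of R)).appTop) :
    Function.Bijective (fun r : R => r • ExtOne.one X) := by
  have h1 := toGlobal_bijective _ h
  have h2 : ∀ r : R, HZero.equivO X (r • ExtOne.one X) =
      Coh.toGlobal (X ↘ Spec (CommRingCat.of R)) r := by
    intro r
    refine (HZero.equivAdd_smul_over (Coh.structureModule X) r (ExtOne.one X)).trans ?_
    have h4 : HZero.equivAdd (Coh.structureModule X) (ExtOne.one X) = (1 : Γ(X, ⊤)) :=
      (HZero.equivO X).apply_symm_apply 1
    rw [h4]
    exact mul_one (HZero.gl R X r)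
  constructor
  · intro r s hrs
    apply h1.1
    rw [← h2, ← h2]
    exact congrArg _ hrs
  · intro x
    obtain ⟨r, hr⟩ := h1.2 (HZero.equivO X x)
    refine ⟨r, (HZero.equivO X).injective ?_⟩
    rw [← hr]
    exact h2 r

/-- Over a principal ideal domain, a finite module without non-zero forms is torsion. -/
theorem exists_smul_eq_zero {R : Type*} [CommRing R] [IsDomain R] [IsPrincipalIdealRing R]
    (M : Type*) [AddCommGroup M] [Module R M] [Module.Finite R M]
    (h : ∀ φ : M →ₗ[R] R, φ = 0) (x : M) : ∃ r : R, r ≠ 0 ∧ r • x = 0 := by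
  let T := Submodule.torsion R M
  have : Module.Free R (M ⧸ T) := inferInstance
  by_cases hT : T = ⊤
  · have hx : x ∈ T := hT ▸ Submodule.mem_top
    obtain ⟨⟨a, ha⟩, hax⟩ := (Submodule.mem_torsion_iff x).1 hx
    exact ⟨a, nonZeroDivisors.ne_zero ha, hax⟩
  · exfalso
    have hnt : Nontrivial (M ⧸ T) := Submodule.Quotient.nontrivial_iff.2 hT
    obtain ⟨y, hy⟩ := exists_ne (0 : M ⧸ T)
    let b := Module.Free.chooseBasis R (M ⧸ T)
    apply hy
    apply b.ext_elem
    intro i
    obtain ⟨z, rfl⟩ := Submodule.mkQ_surjective T y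
    have h1 := h ((b.coord i) ∘ₗ T.mkQ)
    have h2 := LinearMap.congr_fun h1 z
    rw [map_zero]
    exact h2

variable [IsDomain R] [IsDiscreteValuationRing R]

/-- On a proper model of a curve there is a coherent module with a non-zero form on `H¹`. -/
theorem exists_form_ne_zero (X C : Scheme.{u}) [X.Over (Spec (CommRingCat.of R))]
    (f : C ⟶ Spec (CommRingCat.of (FractionRing R)))
    [SmoothOfRelativeDimension 1 f] [IsProper f] [GeometricallyConnected f]
    (hX : _root_.Models.IsModel R X (X ↘ Spec (CommRingCat.of R)) C f)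
    [IsProper (X ↘ Spec (CommRingCat.of R))] :
    ∃ (F : X.Modules) (_ : Coh.IsCoh F) (φ : Coh.HH X F 1 →ₗ[R] R), φ ≠ 0 := by
  have hsm : Smooth f := SmoothOfRelativeDimension.smooth 1 f
  have : ConnectedSpace C := GeometricallyConnected.connectedSpace_of_subsingleton f
  have hint : IsIntegral C := Pi1.H382.Trait.isIntegral_of_smooth f
  have hdim := S4334.topologicalKrullDim_eq_one f
  have hna := CurvesC.DualInvNonvan.not_isAffine (FractionRing R) f hdim
  obtain ⟨hflat, hft, hqc, g, hg⟩ := hX
  have : IsOpenImmersion g := Models.DVRGeneric.isOpenImmersion_of_isPullback hg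
  have : IsLocallyNoetherian X :=
    LocallyOfFiniteType.isLocallyNoetherian (X ↘ Spec (CommRingCat.of R))
  have : CompactSpace X := QuasiCompact.compactSpace_of_compactSpace (X ↘ Spec (CommRingCat.of R))
  have : IsNoetherian X := {}
  have : IsLocallyNoetherian C := LocallyOfFiniteType.isLocallyNoetherian f
  have : CompactSpace C := QuasiCompact.compactSpace_of_compactSpace f
  have : QuasiSeparatedSpace C := inferInstance
  have : QuasiSeparatedSpace X := inferInstance
  by_contra hcon
  push Not at hcon
  apply hna
  apply S0014.result C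
  intro I i hi hIq hIft
  obtain ⟨F, hF, ⟨e⟩⟩ := Sga67.CohLoc.exists_extension g I ⟨hIq, hIft⟩
  have hFq : Coh.IsQCoh F := hF.1
  let _ : C.Over (Spec (CommRingCat.of (FractionRing R))) := ⟨f⟩
  have : Module.Flat R (FractionRing R) := IsLocalization.flat (FractionRing R) (nonZeroDivisors R)
  obtain ⟨e2⟩ := S0034.result R (FractionRing R) X C g hg F 1
  have hfin : Module.Finite R (Coh.HH X F 1) := S0002.result R X F hF 1
  have h1 : Subsingleton (TensorProduct R (FractionRing R) (Coh.HH X F 1)) := by
    refine subsingleton_of_forall_eq 0 fun t => ?_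
    induction t using TensorProduct.induction_on with
    | zero => rfl
    | tmul b x =>
      obtain ⟨r, hr, hrx⟩ := exists_smul_eq_zero (Coh.HH X F 1) (fun φ => hcon F hF φ) x
      have hr' : algebraMap R (FractionRing R) r ≠ 0 := by
        rw [Ne, IsFractionRing.to_map_eq_zero_iff]
        exact hr
      have hb : b = r • ((algebraMap R (FractionRing R) r)⁻¹ * b) := by
        rw [Algebra.smul_def, ← mul_assoc, mul_inv_cancel₀ hr', one_mul]
      rw [hb, TensorProduct.smul_tmul, hrx, TensorProduct.tmul_zero]
    | add s t hs ht => rw [hs, ht, add_zero]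
  have e3 : (Scheme.Modules.pullback g).obj F ≅ I :=
    (Scheme.Modules.restrictFunctorIsoPullback g).symm.app F ≪≫ e
  have h2 : Subsingleton (Coh.HH C ((Scheme.Modules.pullback g).obj F) 1) :=
    e2.symm.injective.subsingleton
  refine subsingleton_of_forall_eq 0 fun x => ?_
  have h3 : hmap e3.hom 1 (hmap e3.inv 1 x) = x := by
    rw [← hmap_comp_apply, e3.inv_hom_id, hmap_id_apply]
  rw [← h3, Subsingleton.elim (hmap e3.inv 1 x) 0, map_zero]

end K379.RDualCurve
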