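import Groth.Agent.Models.K379.RDualTrace
import Groth.Agent.CurvesC.FlasqueCoker
import Groth.Agent.Ega1.QcqsPush
import Groth.Agent.PerfB.QCohLocal

/-!
# `1`-dualizing pairs and open subschemes with finite complement of closed points
-/

set_option autoImplicit false
universe u
open CategoryTheory CategoryTheory.Limits AlgebraicGeometry Opposite TopologicalSpace

namespace K379.RDualOpen

open Groth.Agent Groth.Agent.CohqB.HSeqMod Groth.Agent.CurvesB

section Abstract

variable {A : Type*} [Category A] [Abelian A]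

theorem shortExact_kernel_image {X Z : A} (f : X ⟶ Z) :
    (ShortComplex.mk (kernel.ι f) (Abelian.factorThruImage f)
      (by rw [← cancel_mono (Abelian.image.ι f)]; simp)).ShortExact :=
  { exact := by
      refine ShortComplex.exact_of_f_is_kernel _ ?_
      refine KernelFork.IsLimit.ofι' _ _ fun {W} k hk => ⟨kernel.lift f k ?_, kernel.lift_ι _ _ _⟩
      have hk' : k ≫ Abelian.factorThruImage f = 0 := hk
      rw [← Abelian.image.fac f, reassoc_of% hk', zero_comp]
    mono_f := by dsimp; infer_instance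
    epi_g := by dsimp; infer_instance }

theorem shortExact_image_cokernel {X Z : A} (f : X ⟶ Z) :
    (ShortComplex.mk (Abelian.image.ι f) (cokernel.π f) (by simp)).ShortExact :=
  { exact := by
      refine ShortComplex.exact_of_f_is_kernel _ ?_
      exact kernelIsKernel (cokernel.π f)
    mono_f := by dsimp; infer_instance
    epi_g := by dsimp; infer_instance }

end Abstract

variable {X : Scheme.{u}}

theorem isQCoh_cokernel {F G : X.Modules} (u : F ⟶ G) (hF : Coh.IsQCoh F)
    (hG : Coh.IsQCoh G) : Coh.IsQCoh (cokernel u) := by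
  have h := Groth.Agent.PerfB.QCohLocal.isQCoh_of_isColimit (parallelPair u 0)
    (by rintro (_ | _) <;> assumption) _ (cokernelIsCokernel u)
  exact h

theorem section_eq_zero {M : X.Modules} {U V : X.Opens} (hVU : V ≤ U) (h : IsZero (M.restrict U.ι))
    (s : Γ(M, V)) : s = 0 := by
  have h0 : (𝟙 (M.restrict U.ι) : M.restrict U.ι ⟶ M.restrict U.ι) = 0 := h.eq_of_src _ _
  have hz : ∀ (W : (U : Scheme.{u}).Opens) (x : Γ(M.restrict U.ι, W)), x = 0 := by
    intro W x
    have := congrArg (fun (φ : M.restrict U.ι ⟶ M.restrict U.ι) => (Scheme.Modules.Hom.app φ W) x) h0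
    simpa using this
  have hV : U.ι ''ᵁ (U.ι ⁻¹ᵁ V) = V := by
    rw [Scheme.Hom.image_preimage_eq_opensRange_inf, Scheme.Opens.opensRange_ι]
    exact inf_eq_right.2 hVU
  have h2 : ∀ x : Γ(M, U.ι ''ᵁ (U.ι ⁻¹ᵁ V)), x = 0 := fun x => hz (U.ι ⁻¹ᵁ V) x
  rw [hV] at h2
  exact h2 s

/-- A module vanishing on an open subscheme whose complement is finite and consists of closed points has
no higher cohomology. -/
theorem subsingleton_of_isZero_restrict (U : X.Opens) (hfin : ((U : Set X)ᶜ).Finite)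
    (hcl : ∀ x : X, x ∉ U → IsClosed ({x} : Set X)) (M : X.Modules) (h : IsZero (M.restrict U.ι))
    (n : ℕ) : Subsingleton (Coh.HH X M (n + 1)) := by
  have hfl : TopCat.Sheaf.IsFlasque (X := (X : TopCat.{u})) (Coh.toAb M) := by
    refine CurvesC.FlasqueCoker.isFlasque_of_support _ ((U : Set X)ᶜ) ?_ ?_
    · intro T hT
      have hTf : T.Finite := hfin.subset hT
      rw [← Set.biUnion_of_singleton T]
      exact hTf.isClosed_biUnion fun x hx => hcl x (hT hx)
    · intro V hV s
      have hVU : V ≤ U := by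
        intro x hx
        by_contra hc
        exact Set.disjoint_left.mp hV hx hc
      exact section_eq_zero (M := M) hVU h s
  exact S0453.result (X := (X : TopCat.{u})) (Coh.toAb M) n

section

variable {R : Type u} [CommRing R] [X.Over (Spec (CommRingCat.of R))]

/-- A quasi-coherent module vanishing on `D(ϖ)` has `ϖ`-power torsion global sections. -/
theorem exists_pow_smul_eq_zero [CompactSpace X] (ϖ : R) (U : X.Opens)
    (hU : X.basicOpen (Coh.toGlobal (X ↘ Spec (CommRingCat.of R)) ϖ : Γ(X, ⊤)) ≤ U)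
    (M : X.Modules) (hM : Coh.IsQCoh M) (h : IsZero (M.restrict U.ι))
    (y : Coh.HH X M 0) : ∃ n : ℕ, ϖ ^ n • y = 0 := by
  let g : Γ(X, ⊤) := HZero.gl R X ϖ
  obtain ⟨n, hn⟩ := Ega1.QCohLoc.inj_of_isCompact (Ega1.QCohLoc.isLocOnAffines_of_isQCoh M hM)
    (V := ⊤) isCompact_univ g (HZero.equivAdd M y) rfl (X.basicOpen_le g)
    (section_eq_zero (M := M) hU h _)
  refine ⟨n, (HZero.equivAdd M).injective ?_⟩
  rw [map_zero, ← hn]
  refine (HZero.equivAdd_smul_over M (ϖ ^ n) y).trans ?_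
  rw [map_pow]

end

section Main

variable {R : Type u} [CommRing R] [IsDomain R] [X.Over (Spec (CommRingCat.of R))]

omit [IsDomain R] in
theorem hmap_smulR {M N : X.Modules} (φ : M ⟶ N) (n : ℕ) (r : R) (x : Coh.HH X M n) :
    hmap φ n (r • x) = r • hmap φ n x :=
  (Canon.HHlin R φ n).map_smul r x

/-- A morphism of quasi-coherent modules which is an isomorphism off finitely many closed points of `V(ϖ)`
is surjective on `H¹` with `ϖ`-power torsion kernel. -/
theorem H1_of_isIso [CompactSpace X] (ϖ : R) (U : X.Opens)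
    (hU : X.basicOpen (Coh.toGlobal (X ↘ Spec (CommRingCat.of R)) ϖ : Γ(X, ⊤)) ≤ U)
    (hfin : ((U : Set X)ᶜ).Finite) (hcl : ∀ x : X, x ∉ U → IsClosed ({x} : Set X))
    {M N : X.Modules} (hM : Coh.IsQCoh M) (hN : Coh.IsQCoh N) (α : M ⟶ N)
    (hα : IsIso ((Scheme.Modules.restrictFunctor U.ι).map α)) :
    Function.Surjective (hmap α 1) ∧ ∀ x : Coh.HH X M 1, hmap α 1 x = 0 → ∃ n : ℕ, ϖ ^ n • x = 0 := by
  have hK : IsZero ((kernel α).restrict U.ι) :=
    IsZero.of_iso (isZero_kernel_of_mono ((Scheme.Modules.restrictFunctor U.ι).map α))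
      (PreservesKernel.iso (Scheme.Modules.restrictFunctor U.ι) α)
  have hQ : IsZero ((cokernel α).restrict U.ι) :=
    IsZero.of_iso (isZero_cokernel_of_epi ((Scheme.Modules.restrictFunctor U.ι).map α))
      (PreservesCokernel.iso (Scheme.Modules.restrictFunctor U.ι) α)
  have hQq : Coh.IsQCoh (cokernel α) := isQCoh_cokernel α hM hN
  have hK1 := subsingleton_of_isZero_restrict U hfin hcl (kernel α) hK 0
  have hK2 := subsingleton_of_isZero_restrict U hfin hcl (kernel α) hK 1
  have hQ1 := subsingleton_of_isZero_restrict U hfin hcl (cokernel α) hQ 0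
  have h1 := shortExact_kernel_image α
  have h2 := shortExact_image_cokernel α
  have hfac : ∀ x, hmap α 1 x = hmap (Abelian.image.ι α) 1 (hmap (Abelian.factorThruImage α) 1 x) := by
    intro x
    rw [← hmap_comp_apply, Abelian.image.fac]
  constructor
  · intro y
    obtain ⟨z, hz⟩ := exact₂ h2 1 y (Subsingleton.elim (α := Coh.HH X (cokernel α) 1) _ _)
    obtain ⟨x, hx⟩ := exact₃ h1 1 z (Subsingleton.elim (α := Coh.HH X (kernel α) 2) _ _)
    refine ⟨x, ?_⟩
    rw [hfac]
    exact (congrArg _ hx).trans hz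
  · intro x hx
    rw [hfac] at hx
    obtain ⟨y, hy⟩ := exact₁ h2 0 _ hx
    obtain ⟨n, hn⟩ := exists_pow_smul_eq_zero ϖ U hU (cokernel α) hQq hQ y
    refine ⟨n, ?_⟩
    have h3 : hmap (Abelian.factorThruImage α) 1 (ϖ ^ n • x) = 0 := by
      rw [hmap_smulR, ← hy]
      refine (Sga2.PnHHDelta.δ_smulΓ h2 0 _ y).symm.trans ?_
      refine (congrArg (δ h2 0) hn).trans (map_zero _)
    obtain ⟨z, hz⟩ := exact₂ h1 1 (ϖ ^ n • x) h3
    have hz0 : z = 0 := Subsingleton.elim (α := Coh.HH X (kernel α) 1) _ _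
    rw [hz0, map_zero] at hz
    exact hz.symm

/-- The unit `ω ⟶ j_* j^* ω` is an isomorphism for the module `ω` of a `1`-dualizing pair. -/
theorem isIso_unit [CompactSpace X] [IsLocallyNoetherian X] (ϖ : R) (hϖ : ϖ ≠ 0) (U : X.Opens)
    (hU : X.basicOpen (Coh.toGlobal (X ↘ Spec (CommRingCat.of R)) ϖ : Γ(X, ⊤)) ≤ U)
    (hfin : ((U : Set X)ᶜ).Finite) (hcl : ∀ x : X, x ∉ U → IsClosed ({x} : Set X))
    (ω : X.Modules) (tr : Coh.HH X ω 1 →ₗ[R] R) (hω : Canon.IsRDualOver R X 1 ω tr) :
    IsIso ((Scheme.Modules.restrictAdjunction U.ι).unit.app ω) := by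
  let adj := Scheme.Modules.restrictAdjunction U.ι
  let F := Scheme.Modules.restrictFunctor U.ι
  let ω' : X.Modules := (Scheme.Modules.pushforward U.ι).obj (F.obj ω)
  let η : ω ⟶ ω' := adj.unit.app ω
  have hωq : ω.IsQuasicoherent := hω.1
  have hFq : Coh.IsQCoh (F.obj ω) := inferInstanceAs (F.obj ω).IsQuasicoherent
  have hω'q : Coh.IsQCoh ω' := Ega1.QcqsPush.isQCoh_pushforward U.ι (F.obj ω) hFq
  have hη : IsIso (F.map η) := by
    have h1 : F.map η ≫ adj.counit.app (F.obj ω) = 𝟙 _ := adj.left_triangle_components ω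
    have : IsIso (F.map η ≫ adj.counit.app (F.obj ω)) := by rw [h1]; infer_instance
    exact IsIso.of_isIso_comp_right (F.map η) (adj.counit.app (F.obj ω))
  obtain ⟨hs, ht⟩ := H1_of_isIso ϖ U hU hfin hcl hω.1 hω'q η hη
  have : Module.Projective R (LinearMap.range (0 : Coh.HH X ω' 1 →ₗ[R] R)) := by
    rw [LinearMap.range_zero]; infer_instance
  obtain ⟨ψ, hψ⟩ := RDualTrace.exists_form (Canon.HHlin R η 1) (0 : Coh.HH X ω' 1 →ₗ[R] R)
    (fun b _ => hs b) (fun _ => rfl) tr (by
      intro x hx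
      obtain ⟨n, hn⟩ := ht x hx
      have h3 : ϖ ^ n * tr x = 0 := by
        rw [← smul_eq_mul, ← map_smul, hn, map_zero]
      exact (mul_eq_zero.1 h3).resolve_left (pow_ne_zero n hϖ))
  obtain ⟨φ, hφ⟩ := K769.Basic.exists_hom hω hω'q ψ
  have h6 : η ≫ φ = 𝟙 ω := by
    apply K769.Basic.hom_ext hω hω.1
    rw [K769.Basic.HHlin_comp, ← LinearMap.comp_assoc, hφ, hψ, K769.Basic.HHlin_id, LinearMap.comp_id]
  have h7 : φ ≫ η = 𝟙 ω' := by
    apply (adj.homEquiv ω' (F.obj ω)).symm.injective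
    rw [← cancel_epi (F.map η)]
    have h8 := adj.homEquiv_naturality_left_symm η (φ ≫ η)
    have h9 := adj.homEquiv_naturality_left_symm η (𝟙 ω')
    rw [← h8, ← h9]
    congr 1
    rw [← Category.assoc, h6, Category.id_comp, Category.comp_id]
  exact ⟨φ, h6, h7⟩

end Main

end K379.RDualOpen
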